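import Cfsg.Agent.Lib.J1Unique.Seven

/-!
# An element of odd order beyond the centralizer of the central involution
-/

set_option autoImplicit false
set_option linter.unusedSectionVars false
set_option linter.style.haveILetI false
set_option maxRecDepth 100000
set_option synthInstance.maxSize 512
set_option synthInstance.maxHeartbeats 4000000

namespace CfsgLib.J1Unique

open CfsgLib.JanOrder

universe u

variable {G : Type u} [Group G]

/-- A fixed-point-free involution inverts. -/
theorem invert_of_fpf [Finite G] (O : Subgroup G) {x : G} (hx : x * x = 1)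
    (hn : ∀ o ∈ O, x * o * x ∈ O) (hf : ∀ o ∈ O, x * o * x = o → o = 1) :
    ∀ o ∈ O, x * o * x = o⁻¹ := by
  intro o ho
  let f : O → O := fun a => ⟨(a : G)⁻¹ * (x * a * x), mul_mem (inv_mem a.2) (hn _ a.2)⟩
  have hinj : Function.Injective f := by
    intro a b h
    have h' : (a : G)⁻¹ * (x * a * x) = (b : G)⁻¹ * (x * b * x) := congrArg Subtype.val h
    have h1 : x * ((b : G) * (a : G)⁻¹) * x = (b : G) * (a : G)⁻¹ := by
      calc x * ((b : G) * (a : G)⁻¹) * x
          = (x * b * x) * (x * a * x)⁻¹ := by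
            simp only [mul_inv_rev, inv_eq_of_mul_eq_one_right hx, mul_assoc]
            rw [← mul_assoc x x (_ * _), hx, one_mul]
        _ = (b : G) * ((b : G)⁻¹ * (x * b * x)) * (x * a * x)⁻¹ := by group
        _ = _ := by rw [← h']; group
    exact Subtype.ext (mul_inv_eq_one.1 (hf _ (mul_mem b.2 (inv_mem a.2)) h1)).symm
  obtain ⟨a, ha⟩ := Finite.injective_iff_surjective.1 hinj ⟨o, ho⟩
  have ha' : (a : G)⁻¹ * (x * a * x) = o := congrArg Subtype.val ha
  subst ha'
  have hxx : ∀ z, x * (x * z) = z := fun z => by rw [← mul_assoc, hx, one_mul]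
  simp only [mul_inv_rev, inv_inv, inv_eq_of_mul_eq_one_right hx, mul_assoc, hxx, hx, mul_one]

variable [Finite G] {t : G} (D : Cen t)

theorem odd_cent_rho : ∀ m : Mdl, m * rhoM = rhoM * m → m ^ 15 = 1 →
    m = 1 ∨ m = rhoM ∨ m = rhoM * rhoM := by decide +kernel

theorem card_cent_rho : Fintype.card {m : Mdl // m * rhoM = rhoM * m} = 6 := by decide +kernel

theorem four_cent_rho : ∀ m : Mdl, m * rhoM = rhoM * m → m ^ 4 = 1 → m = 1 ∨ m = τM := by
  decide +kernel

theorem tau_ne_one : (τM : Mdl) ≠ 1 := by decide +kernel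

/-- An element of odd order of the centralizer of the central involution satisfies `x ^ 15 = 1`. -/
theorem pow_fifteen_of_odd {m : Mdl} (h : Odd (orderOf (D.val m))) : m ^ 15 = 1 := by
  refine D.val_inj ?_
  rw [D.val_pow, D.val_one, ← orderOf_dvd_iff_pow_eq_one]
  have h30 : orderOf (D.val m) ∣ 30 := orderOf_dvd_of_pow_eq_one (by
    rw [← D.val_pow, pow_thirty, D.val_one])
  exact (Nat.Coprime.dvd_of_dvd_mul_right (Nat.coprime_two_right.2 h) (show _ ∣ 15 * 2 from h30))

theorem rho_val : D.val rhoM ^ 3 = 1 ∧ D.val rhoM ≠ 1 := by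
  refine ⟨by rw [← D.val_pow, rho_facts.1, D.val_one], fun h => rho_facts.2.1 ?_⟩
  exact D.val_inj (h.trans D.val_one.symm)

theorem y_inv_rho : sEl D 1 * D.val rhoM * sEl D 1 = (D.val rhoM)⁻¹ := by
  rw [sEl, sM_four.2.2, ← D.val_mul, ← D.val_mul, rho_facts.2.2.1, D.val_inv]

variable [IsSimpleGroup G]

/-- The normal complement in the centralizer of `rhoM`. -/
theorem exists_odd_part (hG : Nat.card G = 175560) : ∃ O : Subgroup G,
    (∀ o ∈ O, o * D.val rhoM = D.val rhoM * o ∧ Odd (orderOf o)) ∧
    (∀ o, o * D.val rhoM = D.val rhoM * o → Odd (orderOf o) → o ∈ O) ∧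
    ∃ k ∈ O, k ≠ 1 ∧ k ≠ D.val rhoM ∧ k ≠ D.val rhoM * D.val rhoM := by
  classical
  haveI : Fact (Nat.Prime 2) := ⟨Nat.prime_two⟩
  haveI : Fact (Nat.Prime 3) := ⟨by norm_num⟩
  obtain ⟨ρ, hρ⟩ : ∃ ρ, ρ = D.val rhoM := ⟨_, rfl⟩
  rw [← hρ]
  set C := Subgroup.centralizer ({ρ} : Set G) with hC
  have htC : t ∈ C := Subgroup.mem_centralizer_singleton_iff.2 (by rw [hρ, D.commute_val])
  obtain ⟨tc, htc⟩ : ∃ tc : C, (tc : G) = t := ⟨⟨t, htC⟩, rfl⟩
  have htp : IsPGroup 2 (Subgroup.zpowers tc) := IsPGroup.of_card (n := 1) (by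
    rw [Nat.card_zpowers, ← Subgroup.orderOf_coe, htc, D.ord]; norm_num)
  obtain ⟨T, hT⟩ := htp.exists_le_sylow
  have htT : tc ∈ (T : Subgroup C) := hT (Subgroup.mem_zpowers tc)
  have hS8 : Nat.card (sGrp D) = 2 ^ (Nat.card G).factorization 2 := by
    rw [card_sGrp, hG, show (175560 : ℕ).factorization 2 = 3 by
      rw [Nat.factorization_def _ Nat.prime_two]
      norm_num [padicValNat_def']
      exact multiplicity_eq_of_dvd_of_not_dvd (by norm_num) (by norm_num)]
    norm_num
  set S : Sylow 2 G := Sylow.ofCard (sGrp D) hS8 with hS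
  -- a 2-subgroup is abelian
  have hab : ∀ a ∈ (T : Subgroup C), a * tc = tc * a := by
    intro a ha
    obtain ⟨U, hU⟩ := (T.isPGroup'.map C.subtype).exists_le_sylow
    obtain ⟨g, hg⟩ := MulAction.exists_smul_eq G U S
    have hmem : ∀ b ∈ (T : Subgroup C), g * (b : G) * g⁻¹ ∈ (S : Subgroup G) := fun b hb => by
      rw [← hg, Sylow.coe_subgroup_smul]
      exact ⟨_, hU ⟨b, hb, rfl⟩, rfl⟩
    obtain ⟨i, hi⟩ := hmem a ha
    obtain ⟨j, hj⟩ := hmem tc htT
    have h := sEl_mul D i j
    rw [xr_comm, ← sEl_mul, hi, hj] at h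
    apply Subtype.ext
    have h' := congrArg (fun z => g⁻¹ * z * g) h
    simp only [mul_assoc, inv_mul_cancel_left, inv_mul_cancel, mul_one] at h'
    exact h'
  have hT2 : Nat.card (T : Subgroup C) = 2 := by
    obtain ⟨e, he⟩ := T.isPGroup'.exists_card_eq
    have hsub : ∀ a : (T : Subgroup C), ∃ m, D.val m = ((a : C) : G) ∧ m * rhoM = rhoM * m := by
      intro a
      obtain ⟨m, hm⟩ := D.val_surj (g := ((a : C) : G)) (by
        rw [← htc]
        exact congrArg Subtype.val (hab a a.2))
      refine ⟨m, hm, D.val_inj ?_⟩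
      rw [D.val_mul, D.val_mul, hm, ← hρ]
      exact Subgroup.mem_centralizer_singleton_iff.1 (a : C).2
    choose f hf hf' using hsub
    have hinj : Function.Injective fun a => (⟨f a, hf' a⟩ : {m : Mdl // m * rhoM = rhoM * m}) :=
      fun a b h => Subtype.ext (Subtype.ext (by
        rw [← hf a, ← hf b, show f a = f b from congrArg Subtype.val h]))
    have h6 : Nat.card {m : Mdl // m * rhoM = rhoM * m} = 6 := by
      rw [Nat.card_eq_fintype_card]; exact card_cent_rho
    have hle := Nat.card_le_card_of_injective _ hinj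
    rw [h6, he] at hle
    have he1 : e ≠ 0 := fun h0 => by
      have h1 : (T : Subgroup C) = ⊥ := Subgroup.eq_bot_of_card_eq _ (by rw [he, h0, pow_zero])
      rw [h1, Subgroup.mem_bot] at htT
      apply D.ne_one
      rw [← htc, htT, Subgroup.coe_one]
    have he2 : e < 3 := by
      by_contra h
      have := Nat.pow_le_pow_right (show 0 < 2 by norm_num) (show 3 ≤ e by omega)
      omega
    interval_cases e
    · omega
    · simpa using he
    · exfalso
      -- four elements of `2`-power order commuting with `rhoM`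
      have hfour : ∀ a : (T : Subgroup C), f a = 1 ∨ f a = τM := by
        intro a
        refine four_cent_rho _ (hf' a) (D.val_inj ?_)
        rw [D.val_pow, hf, D.val_one, ← Subgroup.coe_pow, ← Subgroup.coe_pow]
        have := pow_card_eq_one' (x := a)
        rw [he] at this
        rw [show (4 : ℕ) = 2 ^ 2 by norm_num, this, Subgroup.coe_one, Subgroup.coe_one]
      have hinj2 : Function.Injective fun a => decide (f a = 1) := fun a b h => by
        refine hinj (Subtype.ext (?_ : f a = f b))
        rcases hfour a with h1 | h1 <;> rcases hfour b with h2 | h2 <;>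
          simp only [h1, h2, decide_eq_decide] at h ⊢
        · exact absurd (h.1 trivial) tau_ne_one
        · exact absurd (h.2 trivial) tau_ne_one
      have := Nat.card_le_card_of_injective _ hinj2
      rw [he] at this
      simp at this
  have hNC : Subgroup.normalizer ((T : Subgroup C) : Set C) ≤
      Subgroup.centralizer ((T : Subgroup C) : Set C) := by
    intro n hn
    rw [Subgroup.mem_centralizer_iff]
    intro a ha
    haveI : Fintype (T : Subgroup C) := Fintype.ofFinite _
    have h2 : ∀ b ∈ (T : Subgroup C), b = 1 ∨ b = a ∨ a = 1 := by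
      intro b hb
      by_contra hno
      push Not at hno
      have h3 : ({1, a, b} : Finset C).card = 3 :=
        Finset.card_eq_three.2 ⟨1, a, b, fun h => hno.2.2 h.symm, fun h => hno.1 h.symm,
          fun h => hno.2.1 h.symm, rfl⟩
      have h4 : ({1, a, b} : Finset C).card ≤ Nat.card (T : Subgroup C) := by
        rw [Nat.card_eq_fintype_card, ← Finset.card_univ,
          ← Finset.card_map (Function.Embedding.subtype fun x => x ∈ (T : Subgroup C))]
        refine Finset.card_le_card fun x hx => ?_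
        simp only [Finset.mem_insert, Finset.mem_singleton] at hx
        simp only [Finset.mem_map, Finset.mem_univ, true_and, Function.Embedding.coe_subtype]
        rcases hx with rfl | rfl | rfl
        exacts [⟨⟨1, one_mem _⟩, rfl⟩, ⟨⟨_, ha⟩, rfl⟩, ⟨⟨_, hb⟩, rfl⟩]
      omega
    rcases h2 (n * a * n⁻¹) ((Subgroup.mem_normalizer_iff.1 hn a).1 ha) with h | h | h
    · rw [conj_eq_one_iff] at h
      simp [h]
    · exact (mul_inv_eq_iff_eq_mul.1 h).symm
    · simp [h]
  have hcompl := MonoidHom.ker_transferSylow_isComplement' T hNC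
  obtain ⟨O', hO'⟩ : ∃ O' : Subgroup C, O' = (MonoidHom.transferSylow T hNC).ker := ⟨_, rfl⟩
  rw [← hO'] at hcompl
  haveI : O'.Normal := by rw [hO']; infer_instance
  have hOdvd : Nat.card O' * 2 = Nat.card C := by rw [← hT2]; exact hcompl.card_mul
  have hOodd : Odd (Nat.card O') := by
    rw [← Nat.not_even_iff_odd, even_iff_two_dvd]
    intro hd
    have hidx : (T : Subgroup C).index = Nat.card O' := hcompl.index_eq_card
    exact T.not_dvd_index (by rwa [hidx])
  refine ⟨O'.map C.subtype, ?_, ?_, ?_⟩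
  · rintro _ ⟨o, ho, rfl⟩
    refine ⟨Subgroup.mem_centralizer_singleton_iff.1 o.2, ?_⟩
    refine hOodd.of_dvd_nat ?_
    rw [Subgroup.coe_subtype, Subgroup.orderOf_coe, ← Subgroup.orderOf_mk o ho]
    exact orderOf_dvd_natCard _
  · intro o ho hodd
    obtain ⟨oc, hoc⟩ : ∃ oc : C, (oc : G) = o :=
      ⟨⟨o, Subgroup.mem_centralizer_singleton_iff.2 ho⟩, rfl⟩
    refine ⟨oc, ?_, hoc⟩
    rw [← hoc, Subgroup.orderOf_coe] at hodd
    have hmap : orderOf (QuotientGroup.mk' O' oc) = 1 := by
      have h1 := orderOf_map_dvd (QuotientGroup.mk' O') oc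
      have h2 : orderOf (QuotientGroup.mk' O' oc) ∣ 2 := by
        refine (orderOf_dvd_natCard _).trans (dvd_of_eq ?_)
        have h := O'.card_mul_index
        rw [← hOdvd] at h
        rw [← Subgroup.index_eq_card]
        exact Nat.eq_of_mul_eq_mul_left Nat.card_pos h
      rcases (Nat.dvd_prime Nat.prime_two).1 h2 with h | h
      · exact h
      · rw [h] at h1
        exact absurd h1 (fun hh => Nat.not_even_iff_odd.2 hodd (even_iff_two_dvd.2 hh))
    exact (QuotientGroup.eq_one_iff oc).1 (orderOf_eq_one_iff.1 hmap)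
  · by_contra hno
    push Not at hno
    have h3le : Nat.card O' ≤ 3 := by
      have hsub : ∀ o : O', ∃ i : Fin 3, ((o : C) : G) = ρ ^ (i : ℕ) := by
        intro o
        by_cases h1 : ((o : C) : G) = 1
        · exact ⟨0, by simp [h1]⟩
        by_cases h2 : ((o : C) : G) = ρ
        · exact ⟨1, by simp [h2]⟩
        exact ⟨2, (hno _ ⟨(o : C), o.2, rfl⟩ h1 h2).trans (pow_two ρ).symm⟩
      choose f hf using hsub
      have := Nat.card_le_card_of_injective f fun a b h =>
        Subtype.ext (Subtype.ext (by rw [hf a, hf b, h]))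
      simpa using this
    have h3 : Nat.card C = 6 := by
      have hρ3 : orderOf ρ = 3 := orderOf_eq_prime (hρ ▸ (rho_val D).1) (hρ ▸ (rho_val D).2)
      have h3d : 3 ∣ Nat.card C := by
        obtain ⟨rc, hrc⟩ : ∃ rc : C, (rc : G) = ρ :=
          ⟨⟨ρ, Subgroup.mem_centralizer_singleton_iff.2 rfl⟩, rfl⟩
        rw [← hρ3, ← hrc, Subgroup.orderOf_coe]
        exact orderOf_dvd_natCard _
      rcases hOodd with ⟨j, hj⟩
      omega
    -- the normalizer of the group of order three has order twelve
    have hρ3 : orderOf ρ = 3 := orderOf_eq_prime (hρ ▸ (rho_val D).1) (hρ ▸ (rho_val D).2)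
    have hP3 : Nat.card (Subgroup.zpowers ρ) = 3 ^ (Nat.card G).factorization 3 := by
      rw [Nat.card_zpowers, hρ3, hG, Nat.factorization_def _ Fact.out]
      norm_num [padicValNat_def']
      rw [multiplicity_eq_of_dvd_of_not_dvd (k := 1) (by norm_num) (by norm_num)]
      norm_num
    set P : Sylow 3 G := Sylow.ofCard (Subgroup.zpowers ρ) hP3 with hP
    have hy := y_inv_rho D
    rw [← hρ] at hy
    set y := sEl D 1 with hy'
    have hyy : y * y = 1 := sEl_sq D 1
    set N := Subgroup.normalizer ((Subgroup.zpowers ρ : Subgroup G) : Set G) with hN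
    have hmemN : ∀ g : G, g ∈ N ↔ g * ρ * g⁻¹ = ρ ∨ g * ρ * g⁻¹ = ρ⁻¹ := by
      intro g
      constructor
      · intro hg
        obtain ⟨i, hi⟩ := mem_powers_iff_mem_zpowers.2
          ((Subgroup.mem_normalizer_iff.1 hg ρ).1 (Subgroup.mem_zpowers ρ))
        have hi' : ρ ^ i = g * ρ * g⁻¹ := hi
        rw [pow_eq_pow_mod i (hρ3 ▸ pow_orderOf_eq_one ρ)] at hi'
        have : i % 3 < 3 := Nat.mod_lt _ (by norm_num)
        interval_cases h : i % 3
        · exfalso
          rw [pow_zero] at hi'
          have := conj_eq_one_iff.1 hi'.symm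
          rw [this, orderOf_one] at hρ3
          norm_num at hρ3
        · exact Or.inl (by rw [← hi', pow_one])
        · refine Or.inr (hi' ▸ eq_inv_of_mul_eq_one_left ?_)
          rw [← pow_succ]; show ρ ^ 3 = 1; rw [← hρ3]; exact pow_orderOf_eq_one ρ
      · intro hg
        rw [hN, Subgroup.mem_normalizer_iff]
        have hz : (Subgroup.zpowers ρ).map (MulAut.conj g).toMonoidHom = Subgroup.zpowers ρ := by
          rw [MonoidHom.map_zpowers]
          rcases hg with h | h
          · rw [show (MulAut.conj g).toMonoidHom ρ = ρ from h]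
          · rw [show (MulAut.conj g).toMonoidHom ρ = ρ⁻¹ from h, Subgroup.zpowers_inv]
        intro a
        constructor
        · intro ha
          rw [← hz]
          exact ⟨a, ha, rfl⟩
        · intro ha
          rw [← hz] at ha
          obtain ⟨b, hb, hb'⟩ := ha
          have : b = a := (MulAut.conj g).injective hb'
          exact this ▸ hb
    let φ : Bool × C → N := fun p => ⟨(if p.1 then y else 1) * (p.2 : G), by
      rw [hmemN]
      have hc := Subgroup.mem_centralizer_singleton_iff.1 p.2.2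
      have hc' : (p.2 : G) * ρ * (p.2 : G)⁻¹ = ρ := mul_inv_eq_iff_eq_mul.2 hc
      by_cases hb : p.1 = true
      · right
        simp only [hb, if_true]
        rw [mul_inv_rev, show y * (p.2 : G) * ρ * ((p.2 : G)⁻¹ * y⁻¹) =
          y * ((p.2 : G) * ρ * (p.2 : G)⁻¹) * y⁻¹ by group, hc',
          inv_eq_of_mul_eq_one_right hyy, hy]
      · left
        simp only [hb, Bool.false_eq_true, if_false, one_mul, hc']⟩
    have hne : ρ⁻¹ ≠ ρ := fun h => by
      have : ρ ^ 2 = 1 := by rw [pow_two]; exact mul_eq_one_iff_eq_inv.2 h.symm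
      have := orderOf_dvd_of_pow_eq_one this
      rw [hρ3] at this
      norm_num at this
    have hyC : y ∉ C := fun hc => by
      rw [hC, Subgroup.mem_centralizer_singleton_iff] at hc
      rw [hc, mul_assoc, hyy, mul_one] at hy
      exact hne hy.symm
    have hφ : Function.Bijective φ := by
      constructor
      · rintro ⟨b, c⟩ ⟨b', c'⟩ h
        have h' : (if b then y else 1) * (c : G) = (if b' then y else 1) * (c' : G) :=
          congrArg Subtype.val h
        cases b <;> cases b' <;> simp only [Bool.false_eq_true, if_false, if_true, one_mul] at h'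
        · exact Prod.ext rfl (Subtype.ext h')
        · exact absurd (show y ∈ C by
            rw [show y = (c : G) * (c' : G)⁻¹ by rw [h']; group]
            exact mul_mem c.2 (inv_mem c'.2)) hyC
        · exact absurd (show y ∈ C by
            rw [show y = (c' : G) * (c : G)⁻¹ by rw [← h']; group]
            exact mul_mem c'.2 (inv_mem c.2)) hyC
        · exact Prod.ext rfl (Subtype.ext (mul_left_cancel h'))
      · rintro ⟨g, hg⟩
        rcases (hmemN g).1 hg with h | h
        · exact ⟨(false, ⟨g, Subgroup.mem_centralizer_singleton_iff.2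
            (mul_inv_eq_iff_eq_mul.1 h)⟩), Subtype.ext (one_mul g)⟩
        · refine ⟨(true, ⟨y * g, Subgroup.mem_centralizer_singleton_iff.2
            (mul_inv_eq_iff_eq_mul.1 ?_)⟩), Subtype.ext ?_⟩
          · rw [mul_inv_rev, show y * g * ρ * (g⁻¹ * y⁻¹) = y * (g * ρ * g⁻¹) * y⁻¹ by group, h,
              inv_eq_of_mul_eq_one_right hyy]
            have h2 : y * ρ⁻¹ * y = (y * ρ * y)⁻¹ := by
              simp only [mul_inv_rev, inv_eq_of_mul_eq_one_right hyy, mul_assoc]
            rw [h2, hy, inv_inv]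
          · show y * (y * g) = g
            rw [← mul_assoc, hyy, one_mul]
    have h12 : Nat.card N = 12 := by
      rw [← Nat.card_eq_of_bijective φ hφ, Nat.card_prod, h3, Nat.card_eq_fintype_card,
        Fintype.card_bool]
    have h1 := card_sylow_modEq_one 3 G
    rw [P.card_eq_index_normalizer] at h1
    have h2 := N.index_mul_card
    rw [h12, hG] at h2
    change N.index ≡ 1 [MOD 3] at h1
    rw [Nat.ModEq] at h1
    omega

/-- The element which links the centralizer with the normalizer. -/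
theorem exists_odd (hG : Nat.card G = 175560) : ∃ δ : Bool, ∃ a : G, a ≠ 1 ∧ Odd (orderOf a) ∧
    a * D.val rhoM = D.val rhoM * a ∧ t * a * t = a⁻¹ ∧
    sEl D (tauI δ) * a * sEl D (tauI δ) = a := by
  classical
  obtain ⟨O, hOc, hOm, k₀, hk₀, hk1, hk2, hk3⟩ := exists_odd_part D hG
  set ρ := D.val rhoM with hρ
  set y := sEl D 1 with hy
  have hyy : y * y = 1 := sEl_sq D 1
  have htt := D.tt
  have h4 : sEl D 4 = t := sEl_four D
  have hty : t * y = y * t := by
    calc t * y = sEl D 4 * sEl D 1 := by rw [h4]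
      _ = sEl D 1 * sEl D 4 := by rw [sEl_mul, sEl_mul, xr_comm]
      _ = y * t := by rw [h4]
  have hnorm : ∀ x : G, x * x = 1 → (x * ρ * x = ρ ∨ x * ρ * x = ρ⁻¹) →
      ∀ o ∈ O, x * o * x ∈ O := by
    intro x hx hxr o ho
    obtain ⟨hc, hodd⟩ := hOc o ho
    have hxi : x⁻¹ = x := inv_eq_of_mul_eq_one_right hx
    refine hOm _ ?_ ?_
    · have hc' : Commute o ρ := hc
      have key : Commute (x * o * x⁻¹) (x * ρ * x⁻¹) := (Commute.conj_iff x).2 hc'
      rw [hxi] at key
      rcases hxr with h | h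
      · rwa [h] at key
      · rw [h] at key; exact (Commute.inv_right_iff.1 key).eq
    · have : orderOf (x * o * x⁻¹) = orderOf o := (MulAut.conj x).orderOf_eq o
      rw [hxi] at this
      rwa [this]
  have hfix : ∀ o ∈ O, t * o * t = o → o = 1 ∨ o = ρ ∨ o = ρ * ρ := by
    intro o ho h
    have hcomm : o * t = t * o := by
      conv_lhs => rw [← h]
      rw [mul_assoc, htt, mul_one]
    obtain ⟨m, rfl⟩ := D.val_surj hcomm
    obtain ⟨hc, hodd⟩ := hOc _ ho
    rcases odd_cent_rho m (D.val_inj (by rw [D.val_mul, D.val_mul]; exact hc))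
        (pow_fifteen_of_odd D hodd) with rfl | rfl | rfl
    · exact Or.inl D.val_one
    · exact Or.inr (Or.inl rfl)
    · exact Or.inr (Or.inr (D.val_mul _ _))
  have htn := hnorm t htt (Or.inl (by rw [hρ, ← D.commute_val, mul_assoc, htt, mul_one]))
  have hyn := hnorm y hyy (Or.inr (y_inv_rho D))
  have hyi : y⁻¹ = y := inv_eq_of_mul_eq_one_right hyy
  have hti : t⁻¹ = t := inv_eq_of_mul_eq_one_right htt
  have hmake : ∀ k ∈ O, k ≠ 1 → k ≠ ρ → k ≠ ρ * ρ →
      k⁻¹ * (t * k * t) ≠ 1 ∧ Odd (orderOf (k⁻¹ * (t * k * t))) ∧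
      k⁻¹ * (t * k * t) * ρ = ρ * (k⁻¹ * (t * k * t)) ∧
      t * (k⁻¹ * (t * k * t)) * t = (k⁻¹ * (t * k * t))⁻¹ := by
    intro k hk h1 h2 h3
    obtain ⟨hc, hodd⟩ := hOc _ (mul_mem (inv_mem hk) (htn k hk))
    refine ⟨fun h => ?_, hodd, hc, ?_⟩
    · rcases hfix k hk (inv_mul_eq_one.1 h).symm with e | e | e
      exacts [h1 e, h2 e, h3 e]
    · have htz : ∀ z, t * (t * z) = z := fun z => by rw [← mul_assoc, htt, one_mul]
      simp only [mul_inv_rev, inv_inv, hti, mul_assoc, htz, htt, mul_one]
  by_cases hc : ∃ k ∈ O, k ≠ 1 ∧ y * k * y = k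
  · obtain ⟨k, hk, h1, hyk⟩ := hc
    have hρne : ∀ w, w = ρ ∨ w = ρ * ρ → y * w * y ≠ w := by
      have hρ1 : ρ * ρ ≠ 1 := fun h => (rho_val D).2 (by
        have := (rho_val D).1
        rw [pow_succ, pow_two] at this
        rwa [← hρ, h, one_mul] at this)
      have h3 : ρ * ρ * ρ = 1 := by rw [hρ, ← pow_two, ← pow_succ]; exact (rho_val D).1
      have hy1 : y * ρ * y = ρ * ρ := by
        rw [y_inv_rho D, ← hρ]; exact inv_eq_of_mul_eq_one_right (by rw [← mul_assoc]; exact h3)
      rintro w (rfl | rfl) h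
      · rw [hy1] at h
        exact (rho_val D).2 (mul_eq_left.1 h)
      · have hy2 : y * (ρ * ρ) * y = (y * ρ * y) * (y * ρ * y) := by
          simp only [mul_assoc]; rw [← mul_assoc y y, hyy, one_mul]
        rw [hy2, hy1, ← mul_assoc, h3, one_mul] at h
        exact (rho_val D).2 (mul_eq_left.1 h.symm)
    obtain ⟨e1, e2, e3, e4⟩ := hmake k hk h1 (fun h => hρne k (Or.inl h) hyk)
      (fun h => hρne k (Or.inr h) hyk)
    refine ⟨false, _, e1, e2, e3, e4, ?_⟩
    show y * (k⁻¹ * (t * k * t)) * y = k⁻¹ * (t * k * t)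
    have hck : y * k = k * y := by
      conv_rhs => rw [← hyk]
      rw [mul_assoc (y * k) y y, hyy, mul_one]
    have hy' : Commute y (k⁻¹ * (t * k * t)) :=
      (show Commute y k from hck).inv_right.mul_right
        ((((show Commute t y from hty).symm).mul_right hck).mul_right (show Commute t y from hty).symm)
    rw [hy'.eq, mul_assoc, hyy, mul_one]
  · push Not at hc
    have hinv : ∀ o ∈ O, y * o * y = o⁻¹ :=
      invert_of_fpf O hyy hyn fun o ho h => by_contra fun hne => hc o ho hne h
    obtain ⟨e1, e2, e3, e4⟩ := hmake k₀ hk₀ hk1 hk2 hk3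
    refine ⟨true, _, e1, e2, e3, e4, ?_⟩
    have hm : k₀⁻¹ * (t * k₀ * t) ∈ O := mul_mem (inv_mem hk₀) (htn _ hk₀)
    generalize k₀⁻¹ * (t * k₀ * t) = a at hm e4 ⊢
    show sEl D 5 * a * sEl D 5 = a
    have h5 : sEl D 5 = t * y := by
      calc sEl D 5 = sEl D 4 * sEl D 1 := by rw [sEl_mul]; rfl
        _ = t * y := by rw [h4]
    rw [h5]
    calc t * y * a * (t * y) = t * y * a * (y * t) := by rw [hty]
      _ = t * (y * a * y) * t := by simp only [mul_assoc]
      _ = t * a⁻¹ * t := by rw [hinv a hm]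
      _ = (t * a * t)⁻¹ := by simp only [mul_inv_rev, hti, mul_assoc]
      _ = a := by rw [e4, inv_inv]

end CfsgLib.J1Unique
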