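import Cfsg.Agent.Lib.PresCert.Sound

/-!
# The group presented by the relators of a certificate
-/

set_option autoImplicit false

namespace CfsgLib.J1Unique

open CfsgLib.PresCert

universe u

/-- A letter as an element of the free group. -/
def fof (n x : ℕ) : FreeGroup (Fin n) := if h : x < n then FreeGroup.of ⟨x, h⟩ else 1

/-- The value of a word. -/
def wv {G : Type u} [Group G] (X : ℕ → G) (w : List ℕ) : G := (w.map X).prod

/-- The relators of a certificate. -/
def relSet (n : ℕ) (rels : List (List ℕ)) : Set (FreeGroup (Fin n)) :=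
  {r | ∃ w ∈ rels, (w.map (fof n)).prod = r}

/-- The group presented by a list of positive words. -/
abbrev PG (n : ℕ) (rels : List (List ℕ)) : Type := PresentedGroup (relSet n rels)

/-- The generators. -/
def pg (n : ℕ) (rels : List (List ℕ)) (x : ℕ) : PG n rels := PresentedGroup.mk _ (fof n x)

theorem pg_rel {n : ℕ} {rels : List (List ℕ)} {w : List ℕ} (hw : w ∈ rels) :
    wv (pg n rels) w = 1 := by
  have h := PresentedGroup.one_of_mem (rels := relSet n rels) ⟨w, hw, rfl⟩
  rw [map_list_prod, List.map_map] at h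
  exact h

variable {G : Type u} [Group G]

theorem wv_nil (X : ℕ → G) : wv X [] = 1 := rfl

theorem wv_cons (X : ℕ → G) (x : ℕ) (w : List ℕ) : wv X (x :: w) = X x * wv X w := by simp [wv]

theorem wv_append (X : ℕ → G) (a b : List ℕ) : wv X (a ++ b) = wv X a * wv X b := by simp [wv]

theorem wv_replicate (X : ℕ → G) (x k : ℕ) : wv X (List.replicate k x) = X x ^ k := by simp [wv]

/-- The homomorphism given by elements satisfying the relators. -/
def toG (n : ℕ) (rels : List (List ℕ)) (X : ℕ → G) (hlt : ∀ w ∈ rels, ∀ x ∈ w, x < n)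
    (hX : ∀ w ∈ rels, wv X w = 1) : PG n rels →* G :=
  PresentedGroup.toGroup (f := fun i : Fin n => X i) (by
    rintro r ⟨w, hw, rfl⟩
    rw [map_list_prod, List.map_map, List.map_congr_left (g := X) fun x hx => by
      simp [fof, hlt w hw x hx]]
    exact hX w hw)

theorem toG_pg {n : ℕ} {rels : List (List ℕ)} (X : ℕ → G) (hlt : ∀ w ∈ rels, ∀ x ∈ w, x < n)
    (hX : ∀ w ∈ rels, wv X w = 1) {x : ℕ} (hx : x < n) :
    toG n rels X hlt hX (pg n rels x) = X x := by
  rw [pg, fof, dif_pos hx]
  simp [toG, ← PresentedGroup.of.eq_1]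

theorem closure_pg {n : ℕ} (rels : List (List ℕ)) :
    Subgroup.closure {q | ∃ x < n, pg n rels x = q} = ⊤ := by
  rw [eq_top_iff, ← PresentedGroup.closure_range_of (relSet n rels), Subgroup.closure_le]
  rintro _ ⟨i, rfl⟩
  refine Subgroup.subset_closure ⟨i, i.2, ?_⟩
  rw [pg, fof, dif_pos i.2]
  rfl

/-- The model of a certificate in the group it presents. -/
def presModel (C : Cert) (hlt : ∀ w ∈ C.rels, ∀ x ∈ w, x < C.g)
    (hinv : ∀ x < C.g, C.iv x < C.g ∧ ([x, C.iv x] ∈ C.rels ∨ [C.iv x, x] ∈ C.rels))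
    (S : Subgroup (PG C.g C.rels))
    (hsub : ∀ r ∈ C.subs, wv (pg C.g C.rels) r ∈ S) : Model C (PG C.g C.rels) where
  gen := pg C.g C.rels
  gen_inv x hx := by
    refine ⟨(hinv x hx).1, ?_⟩
    rcases (hinv x hx).2 with h | h <;>
      have h' := pg_rel (n := C.g) h <;> rw [wv_cons, wv_cons, wv_nil, mul_one] at h'
    · exact eq_inv_of_mul_eq_one_right h'
    · exact eq_inv_of_mul_eq_one_left h'
  rels_eq r hr := ⟨hlt r hr, pg_rel hr⟩
  sub := S
  subs_mem := hsub
  closure_gen := closure_pg C.rels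

end CfsgLib.J1Unique
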