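import Cfsg.Agent.Lib.J1Unique.Seven

/-!
# The action of the element of order seven in normal form
-/

set_option autoImplicit false
set_option linter.unusedSectionVars false
set_option maxRecDepth 100000

namespace CfsgLib.J1Unique

open CfsgLib.JanOrder

universe u

variable {G : Type u} [Group G] [Finite G] {t : G} (D : Cen t)

/-- An element of order seven acting on the Sylow subgroup in one of the two normal forms. -/
structure Act (δ : Bool) (v : G) : Prop where
  pow : v ^ 7 = 1
  ne : v ≠ 1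
  conj : ∀ i, v * sEl D i * v⁻¹ = sEl D (M0 δ i)
  rel : D.val rM * v * (D.val rM)⁻¹ = v ^ 2

theorem r_conj (i : Fin 8) : D.val rM * sEl D i * (D.val rM)⁻¹ = sEl D (RI i) := by
  rw [sEl, sEl, ← D.val_inv, ← D.val_mul, ← D.val_mul, rM_conj]

/-- The dichotomy for an element of order seven. -/
theorem dichotomy {w : G} (hw : orderOf w = 7) (hN : Nml D w) {k : Fin 7}
    (hk : D.val rM * w * (D.val rM)⁻¹ = w ^ (k : ℕ)) :
    k = 4 ∨ (k = 2 ∧ ∀ δ, ∃ v, Act D δ v) := by
  choose f hf using hN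
  have hmul : ∀ i j, f (xr i j) = xr (f i) (f j) := fun i j => sEl_inj D (by
    rw [← hf, ← sEl_mul, ← sEl_mul, ← hf, ← hf]; group)
  have hf0 : f 0 = 0 := sEl_inj D (by rw [← hf, sEl_zero]; group)
  have hlin : f = lin (f 4) (f 1) (f 2) := by
    funext i
    conv_lhs => rw [lin_split i]
    simp only [hmul, lin, apply_ite f, hf0]
  have hit : ∀ (n : ℕ) (i : Fin 8), w ^ n * sEl D i * (w ^ n)⁻¹ = sEl D (f^[n] i) := by
    intro n
    induction n with
    | zero => intro i; simp
    | succ n ih =>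
      intro i
      rw [Function.iterate_succ', Function.comp_apply, ← hf, ← ih]
      group
  have h7 : w ^ 7 = 1 := hw ▸ pow_orderOf_eq_one w
  have hid : ∀ i, f^[7] i = i := fun i => sEl_inj D (by rw [← hit 7 i, h7]; group)
  have hne : ∃ i, f i ≠ i := by
    by_contra hno
    push Not at hno
    have hc := hf 4
    rw [hno 4, sEl_four] at hc
    obtain ⟨m, rfl⟩ := D.val_surj (mul_inv_eq_iff_eq_mul.1 hc)
    have h30 : D.val m ^ 30 = 1 := by rw [← D.val_pow, pow_thirty, D.val_one]
    have h := orderOf_dvd_of_pow_eq_one h30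
    rw [hw] at h
    norm_num at h
  have hR : ∀ i, RI (f i) = f^[(k : ℕ)] (RI i) := fun i => sEl_inj D (by
    rw [← r_conj, ← hf, ← hit, ← r_conj, ← hk]; group)
  rw [hlin] at hid hne hR
  rcases lin_check _ _ _ hid hne k hR with h | ⟨h2, hd⟩
  · exact Or.inl h
  rw [← hlin] at hd
  refine Or.inr ⟨h2, fun δ => ?_⟩
  obtain ⟨j, hj0, hj⟩ := hd δ
  refine ⟨w ^ (j : ℕ), ?_, fun h => hj0 ?_, fun i => by rw [hit, hj], ?_⟩
  · rw [← pow_mul, mul_comm, pow_mul, h7, one_pow]
  · have hd7 := orderOf_dvd_of_pow_eq_one h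
    rw [hw] at hd7
    exact Fin.ext (Nat.eq_zero_of_dvd_of_lt hd7 j.2)
  · rw [← conj_pow, hk, h2, ← pow_mul, ← pow_mul, mul_comm]
    rfl

/-- The twist by a transposition. -/
def twist : Cen t := ⟨D.ord, D.central, D.e.trans sgM⟩

theorem twist_val (m : Mdl) : (twist D).val m = D.val (sgM.symm m) := rfl

theorem sg_symm : sgM.symm rM = rM⁻¹ ∧ ∀ i, ∃ j, sgM.symm (SM i) = SM j := by
  constructor
  · rw [MulEquiv.symm_apply_eq, map_inv, sg_facts.2.1, inv_inv]
  · intro i
    choose f hf using sg_facts.2.2.2.2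
    have hinj : Function.Injective f := fun a b h =>
      sM_inj a b (sgM.injective (by rw [hf, hf, h]))
    obtain ⟨j, rfl⟩ := Finite.injective_iff_surjective.1 hinj i
    exact ⟨j, by rw [MulEquiv.symm_apply_eq, hf]⟩

include D in
/-- After a possible twist the exponent is two. -/
theorem exists_act [IsSimpleGroup G] (hG : Nat.card G = 175560) :
    ∃ D' : Cen t, ∀ δ, ∃ v, Act D' δ v := by
  obtain ⟨w, hw, hN, k, hk⟩ := exists_seven D hG
  rcases dichotomy D hw hN hk with rfl | ⟨-, h⟩
  swap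
  · exact ⟨D, h⟩
  refine ⟨twist D, ?_⟩
  have hN' : Nml (twist D) w := by
    choose f hf using sg_symm.2
    have hS : ∀ i, sEl (twist D) i = sEl D (f i) := fun i => by rw [sEl, twist_val, hf]; rfl
    have hinj : Function.Injective f := fun a b h => sEl_inj (twist D) (by rw [hS, hS, h])
    intro i
    obtain ⟨j, hj⟩ := hN (f i)
    obtain ⟨l, hl⟩ := Finite.injective_iff_surjective.1 hinj j
    exact ⟨l, by rw [hS, hS, hl, hj]⟩
  have hk' : (twist D).val rM * w * ((twist D).val rM)⁻¹ = w ^ ((2 : Fin 7) : ℕ) := by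
    rw [twist_val, sg_symm.1, D.val_inv, inv_inv]
    have h7 : w ^ 7 = 1 := hw ▸ pow_orderOf_eq_one w
    have h2 : D.val rM * w ^ 2 * (D.val rM)⁻¹ = w := by
      rw [← conj_pow, hk, ← pow_mul, pow_eq_pow_mod _ h7]
      exact pow_one w
    conv_lhs => rw [← h2]
    show _ = w ^ 2
    group
  rcases dichotomy (twist D) hw hN' hk' with h | ⟨-, h⟩
  · exact absurd h (by decide)
  · exact h

end CfsgLib.J1Unique
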