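import Cfsg.Agent.Lib.JanOrder.Setup

/-!
# Two-central involutions with small centralizers
-/

set_option autoImplicit false

namespace CfsgLib.J1Unique

open CfsgLib.JanOrder

universe u

/-- An involution with centralizer `2 × A₅` in a group whose order is not divisible by `16` is
two-central. -/
theorem twoCentral_of_dvd {G : Type u} [Group G] [Finite G] {t : G} (ho : orderOf t = 2)
    (e : Subgroup.centralizer ({t} : Set G) ≃* Mdl) (h16 : ¬ 16 ∣ Nat.card G) :
    Cfsg.IsTwoCentralInvolution t := by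
  haveI : Fact (Nat.Prime 2) := ⟨Nat.prime_two⟩
  set C := Subgroup.centralizer ({t} : Set G) with hC
  have h120 : Nat.card C = 120 := by
    rw [Nat.card_congr e.toEquiv, Nat.card_eq_fintype_card, card_mdl]
  have htC : t ∈ C := Subgroup.mem_centralizer_singleton_iff.2 rfl
  have hp : IsPGroup 2 (Subgroup.zpowers (⟨t, htC⟩ : C)) := IsPGroup.of_card (n := 1) (by
    rw [Nat.card_zpowers, Subgroup.orderOf_mk, ho, pow_one])
  obtain ⟨T, hT⟩ := hp.exists_le_sylow
  have hT8 : 2 ^ 3 ∣ Nat.card (T : Subgroup C) :=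
    T.pow_dvd_card_of_pow_dvd_card (by rw [h120]; norm_num)
  obtain ⟨P, hP⟩ := (T.isPGroup'.map C.subtype).exists_le_sylow
  have hcard : Nat.card ((T : Subgroup C).map C.subtype) = Nat.card (T : Subgroup C) :=
    Nat.card_congr ((T : Subgroup C).equivMapOfInjective C.subtype C.subtype_injective).symm.toEquiv
  have hPT : (P : Subgroup G) = (T : Subgroup C).map C.subtype := by
    refine (Subgroup.eq_of_le_of_card_ge hP ?_).symm
    obtain ⟨k, hk⟩ := IsPGroup.iff_card.1 P.2
    have hk3 : k ≤ 3 := by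
      by_contra h
      exact h16 (dvd_trans (by rw [show (16 : ℕ) = 2 ^ 4 by norm_num]; exact pow_dvd_pow 2 (by omega))
        (hk ▸ (P : Subgroup G).card_subgroup_dvd_card))
    rw [hk, hcard]
    exact Nat.le_of_dvd Nat.card_pos ((pow_dvd_pow 2 hk3).trans hT8)
  refine ⟨ho, P, ?_, fun x hx => ?_⟩
  · show t ∈ (P : Subgroup G)
    rw [hPT]
    exact ⟨_, hT (Subgroup.mem_zpowers _), rfl⟩
  · obtain ⟨c, -, rfl⟩ : x ∈ (T : Subgroup C).map C.subtype := hPT ▸ hx
    exact Subgroup.mem_centralizer_singleton_iff.1 c.2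

end CfsgLib.J1Unique
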