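import Cfsg.Agent.Lib.J1Unique.Seven
import Cfsg.Agent.Lib.J1Unique.Action

/-!
# A subgroup containing the centralizer and the element of order seven is everything
-/

set_option autoImplicit false
set_option linter.unusedSectionVars false
set_option maxRecDepth 100000
set_option synthInstance.maxSize 512
set_option synthInstance.maxHeartbeats 4000000

namespace CfsgLib.J1Unique

open CfsgLib.JanOrder

universe u

theorem orbit_four : ∀ δ : Bool, ∀ i : Fin 8, i ≠ 0 → ∃ k : Fin 7, (M0 δ)^[(k : ℕ)] 4 = i := by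
  decide +kernel

theorem orbit_inj : ∀ δ : Bool, ∀ k l : Fin 7,
    (M0 δ)^[(k : ℕ)] 4 = (M0 δ)^[(l : ℕ)] 4 → k = l := by decide +kernel

theorem divisors_209 : ∀ d ∈ Nat.divisors 209, d = 1 ∨ d = 11 ∨ d = 19 ∨ d = 209 := by
  decide +kernel

variable {G : Type u} [Group G] [Finite G] {t : G} (D : Cen t) [IsSimpleGroup G]

/-- An involution fixing exactly one point of a set of size `11` or `19` is odd. -/
theorem no_odd_perm (hG : Nat.card G = 175560) {X : Type u} [Finite X] [MulAction G X] (x : X)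
    (hfix : ∀ y : X, t • y = y ↔ y = x) (htt : t * t = 1)
    (hX : Nat.card X = 11 ∨ Nat.card X = 19) : False := by
  classical
  haveI : Fintype X := Fintype.ofFinite _
  set f : G →* ℤˣ := Equiv.Perm.sign.comp (MulAction.toPermHom G X) with hf
  have hσ : MulAction.toPermHom G X t ^ 2 = 1 := by rw [← map_pow, pow_two, htt, map_one]
  have h1 : Fintype.card (Function.fixedPoints (MulAction.toPermHom G X t)) = 1 := by
    rw [Fintype.card_eq_one_iff]
    exact ⟨⟨x, (hfix x).2 rfl⟩, fun y => Subtype.ext ((hfix y.1).1 y.2)⟩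
  have hft : f t = -1 := by
    show Equiv.Perm.sign (MulAction.toPermHom G X t) = -1
    rw [Equiv.Perm.sign_of_pow_two_eq_one hσ, h1, ← Nat.card_eq_fintype_card]
    rcases hX with h | h <;> rw [h] <;> decide
  rcases IsSimpleGroup.eq_bot_or_eq_top_of_normal f.ker (MonoidHom.normal_ker f) with h | h
  · have := Nat.card_le_card_of_injective f ((MonoidHom.ker_eq_bot_iff f).1 h)
    rw [hG, Nat.card_eq_fintype_card, Fintype.card_units_int] at this
    norm_num at this
  · have h' : t ∈ f.ker := h ▸ Subgroup.mem_top t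
    rw [MonoidHom.mem_ker, hft] at h'
    exact absurd h' (by decide)

variable {D} {δ : Bool} {v : G}

/-- A subgroup containing the centralizer and the element of order seven is the whole group. -/
theorem Act.whole (hA : Act D δ v) (hG : Nat.card G = 175560) (H : Subgroup G)
    (hC : ∀ m, D.val m ∈ H) (hv : v ∈ H) : H = ⊤ := by
  classical
  haveI : Fact (Nat.Prime 2) := ⟨Nat.prime_two⟩
  have htt := D.tt
  have hiter : ∀ (k : ℕ) (i : Fin 8), v ^ k * sEl D i * (v ^ k)⁻¹ = sEl D ((M0 δ)^[k] i) := by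
    intro k
    induction k with
    | zero => intro i; simp
    | succ k ih =>
      intro i
      rw [Function.iterate_succ', Function.comp_apply, ← hA.conj, ← ih]
      group
  have hit4 : ∀ k : ℕ, v ^ k * t * (v ^ k)⁻¹ = sEl D ((M0 δ)^[k] 4) := fun k => by
    rw [← hiter k 4, sEl_four]
  have hSH : sGrp D ≤ H := by
    rintro _ ⟨i, rfl⟩
    exact hC _
  have hS8 : Nat.card (sGrp D) = 2 ^ (Nat.card G).factorization 2 := by
    rw [card_sGrp, hG, show (175560 : ℕ).factorization 2 = 3 by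
      rw [Nat.factorization_def _ Nat.prime_two]
      norm_num [padicValNat_def']
      exact multiplicity_eq_of_dvd_of_not_dvd (by norm_num) (by norm_num)]
    norm_num
  -- all involutions of `H` are conjugate in `H`
  have hfus : ∀ x ∈ H, orderOf x = 2 → ∃ h ∈ H, h * t * h⁻¹ = x := by
    intro x hx h2
    have hxp : IsPGroup 2 (Subgroup.zpowers (⟨x, hx⟩ : H)) := IsPGroup.of_card (n := 1) (by
      rw [Nat.card_zpowers, Subgroup.orderOf_mk, h2, pow_one])
    obtain ⟨Q, hQ⟩ := hxp.exists_le_sylow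
    obtain ⟨g, hg⟩ := MulAction.exists_smul_eq H Q
      ((Sylow.ofCard (sGrp D) hS8).subtype hSH)
    have hmem : g * ⟨x, hx⟩ * g⁻¹ ∈ (((Sylow.ofCard (sGrp D) hS8).subtype hSH) : Subgroup H) := by
      rw [← hg, Sylow.coe_subgroup_smul]
      exact ⟨_, hQ (Subgroup.mem_zpowers _), rfl⟩
    obtain ⟨i, hi⟩ : ∃ i, sEl D i = (g : G) * x * (g : G)⁻¹ := hmem
    have hi0 : i ≠ 0 := fun h => by
      rw [h, sEl_zero] at hi
      rw [conj_eq_one_iff.1 hi.symm, orderOf_one] at h2
      norm_num at h2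
    obtain ⟨k, hk⟩ := orbit_four δ i hi0
    refine ⟨(g : G)⁻¹ * v ^ (k : ℕ), mul_mem (inv_mem g.2) (pow_mem hv _), ?_⟩
    calc _ = (g : G)⁻¹ * (v ^ (k : ℕ) * t * (v ^ (k : ℕ))⁻¹) * (g : G) := by group
      _ = (g : G)⁻¹ * ((g : G) * x * (g : G)⁻¹) * (g : G) := by rw [hit4, hk, hi]
      _ = x := by group
  have hfix : ∀ y : G ⧸ H, t • y = y ↔ y = ((1 : G) : G ⧸ H) := by
    intro y
    induction y using QuotientGroup.induction_on with
    | H g =>
      rw [MulAction.Quotient.smul_coe, QuotientGroup.eq, QuotientGroup.eq]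
      simp only [smul_eq_mul, mul_inv_rev, inv_eq_of_mul_eq_one_right htt, mul_one,
        inv_mem_iff]
      constructor
      · intro h
        have ho : orderOf (g⁻¹ * t * g) = 2 := by
          rw [show g⁻¹ * t * g = g⁻¹ * t * g⁻¹⁻¹ by rw [inv_inv]]
          exact ((MulAut.conj g⁻¹).orderOf_eq t).trans D.ord
        obtain ⟨w, hw, he⟩ := hfus _ h ho
        obtain ⟨m, hm⟩ := D.val_surj (g := g * w) (by
          calc g * w * t = g * (w * t * w⁻¹) * w := by group
            _ = g * (g⁻¹ * t * g) * w := by rw [he]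
            _ = t * (g * w) := by group)
        have : g = D.val m * w⁻¹ := by rw [hm]; group
        rw [this]
        exact mul_mem (hC _) (inv_mem hw)
      · intro h
        have hgt : t ∈ H := by rw [← D.val_tau]; exact hC _
        exact mul_mem (mul_mem (inv_mem h) hgt) h
  have h120 : 120 ∣ Nat.card H := by
    rw [← D.card_tCen]
    refine Subgroup.card_dvd_of_le fun g hg => ?_
    obtain ⟨m, rfl⟩ := D.val_surj (Subgroup.mem_centralizer_singleton_iff.1 hg)
    exact hC m
  have h7 : 7 ∣ Nat.card H := by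
    haveI : Fact (Nat.Prime 7) := ⟨by norm_num⟩
    rw [← orderOf_eq_prime hA.pow hA.ne, ← Subgroup.orderOf_mk v hv]
    exact orderOf_dvd_natCard _
  obtain ⟨q, hq⟩ := Nat.Coprime.mul_dvd_of_dvd_of_dvd (by norm_num) h120 h7
  have hmul := H.card_mul_index
  rw [hG, hq] at hmul
  have hd : H.index ∈ Nat.divisors 209 := Nat.mem_divisors.2 ⟨⟨q, by nlinarith⟩, by norm_num⟩
  rcases divisors_209 _ hd with h | h | h | h
  · exact Subgroup.index_eq_one.1 h
  · exact (no_odd_perm hG ((1 : G) : G ⧸ H) hfix htt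
      (Or.inl (by rwa [← Subgroup.index_eq_card]))).elim
  · exact (no_odd_perm hG ((1 : G) : G ⧸ H) hfix htt
      (Or.inr (by rwa [← Subgroup.index_eq_card]))).elim
  exfalso
  have hH : Nat.card H = 840 := by rw [h] at hmul; omega
  let φ : Fin 7 × Mdl → H := fun p => ⟨v ^ (p.1 : ℕ) * D.val p.2, mul_mem (pow_mem hv _) (hC _)⟩
  have hconj : ∀ (k : ℕ) (m : Mdl),
      (v ^ k * D.val m) * t * (v ^ k * D.val m)⁻¹ = sEl D ((M0 δ)^[k] 4) := by
    intro k m
    rw [← hit4, mul_inv_rev, ← mul_assoc, mul_assoc (v ^ k) (D.val m) t, D.commute_val]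
    group
  have hφ : Function.Bijective φ := by
    rw [Nat.bijective_iff_injective_and_card]
    refine ⟨?_, by
      rw [Nat.card_prod, hH, Nat.card_fin, Nat.card_eq_fintype_card, card_mdl]⟩
    rintro ⟨k, m⟩ ⟨l, n⟩ e
    have e' : v ^ (k : ℕ) * D.val m = v ^ (l : ℕ) * D.val n := congrArg Subtype.val e
    have hkl : k = l := orbit_inj δ k l (sEl_inj D (by rw [← hconj _ m, e', hconj]))
    subst hkl
    exact Prod.ext rfl (D.val_inj (mul_left_cancel e'))
  have hconjS : ∀ w ∈ H, ∃ i, w * t * w⁻¹ = sEl D i := by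
    intro w hw
    obtain ⟨⟨k, m⟩, e⟩ := hφ.2 ⟨w, hw⟩
    exact ⟨_, (congrArg (fun z : H => (z : G) * t * (z : G)⁻¹) e).symm.trans (hconj k m)⟩
  have hle : H ≤ Subgroup.normalizer ((sGrp D : Subgroup G) : Set G) := by
    intro w hw
    have hkey : ∀ w ∈ H, ∀ a ∈ sGrp D, w * a * w⁻¹ ∈ sGrp D := by
      rintro w hw _ ⟨i, rfl⟩
      by_cases hi : i = 0
      · subst hi
        rw [sEl_zero, mul_one, mul_inv_cancel]
        exact one_mem _
      obtain ⟨k, hk⟩ := orbit_four δ i hi
      obtain ⟨j, hj⟩ := hconjS (w * v ^ (k : ℕ)) (mul_mem hw (pow_mem hv _))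
      refine ⟨j, ?_⟩
      rw [← hj, ← hk, ← hit4]
      group
    rw [Subgroup.mem_normalizer_iff]
    refine fun a => ⟨hkey w hw a, fun ha => ?_⟩
    have := hkey w⁻¹ (inv_mem hw) _ ha
    rwa [inv_inv, show w⁻¹ * (w * a * w⁻¹) * w = a by group] at this
  have := Nat.le_of_dvd (by rw [card_normalizer D hG]; norm_num) (Subgroup.card_dvd_of_le hle)
  rw [card_normalizer D hG, hH] at this
  omega

end CfsgLib.J1Unique
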