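import Cfsg.Agent.Lib.J1Unique.Rel
import Cfsg.Agent.Lib.J1Unique.Whole
import Cfsg.Agent.Lib.J1Unique.CoxCert
import Cfsg.Agent.Lib.J1Unique.Central
import Cfsg.Agent.Lib.JanOrder.Section
import Cfsg.Agent.Lib.J1Group.InvolCent
import Cfsg.Agent.Lib.J1Group.Classes

/-!
# Uniqueness of the first Janko group
-/

set_option autoImplicit false
set_option linter.unusedSectionVars false
set_option maxRecDepth 100000
set_option synthInstance.maxSize 512
set_option synthInstance.maxHeartbeats 4000000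

namespace CfsgLib.J1Unique

open CfsgLib.JanOrder CfsgLib.PresCert

universe u

/-- The presented group. -/
abbrev P10 : Type := PG Good.cert.g Good.cert.rels

theorem good_lt : ∀ w ∈ Good.cert.rels, ∀ x ∈ w, x < Good.cert.g := by decide +kernel

theorem good_inv : ∀ x < Good.cert.g, Good.cert.iv x < Good.cert.g ∧
    ([x, Good.cert.iv x] ∈ Good.cert.rels ∨ [Good.cert.iv x, x] ∈ Good.cert.rels) := by
  decide +kernel

theorem cox_lt : ∀ w ∈ Cox.cert.rels, ∀ x ∈ w, x < Cox.cert.g := by decide +kernel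

theorem cox_inv : ∀ x < Cox.cert.g, Cox.cert.iv x < Cox.cert.g ∧
    ([x, Cox.cert.iv x] ∈ Cox.cert.rels ∨ [Cox.cert.iv x, x] ∈ Cox.cert.rels) := by decide +kernel

theorem cox_sub : ∀ w ∈ Cox.cert.rels, w ∈ Good.cert.rels := by decide +kernel

theorem good_words : [5, 2, 1, 0, 1, 2, 0, 1, 0, 1, 2, 0, 1, 0, 1, 0] ∈ Good.cert.rels ∧
    [6, 0, 1, 0, 1, 2, 0, 1, 0, 1, 0] ∈ Good.cert.rels ∧
    [8, 1, 2, 0, 1, 0, 1, 2, 0] ∈ Good.cert.rels ∧ [8, 9] ∈ Good.cert.rels ∧
    ∀ r ∈ Good.cert.subs, ∃ x ∈ [0, 1, 2, 5, 6, 8, 9], r = [x] := by decide +kernel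

/-- The presented group has order at most `175560`. -/
theorem card_P10 : Finite P10 ∧ Nat.card P10 ≤ 175560 := by
  let ψ : PG Cox.cert.g Cox.cert.rels →* P10 :=
    toG Cox.cert.g Cox.cert.rels (pg Good.cert.g Good.cert.rels) cox_lt
      fun w hw => pg_rel (cox_sub w hw)
  have hb := Cert.index_le (presModel Cox.cert cox_lt cox_inv (⊥ : Subgroup _)
    (fun r hr => absurd hr (by rw [show Cox.cert.subs = [] from rfl]; exact List.not_mem_nil))) Cox.valid
  have h120 : Nat.card (PG Cox.cert.g Cox.cert.rels) ≤ 120 ∧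
      Nat.card (PG Cox.cert.g Cox.cert.rels) ≠ 0 := by
    rw [← Subgroup.index_bot]
    exact ⟨hb.1.trans_eq rfl, hb.2.index_ne_zero⟩
  haveI : Finite (PG Cox.cert.g Cox.cert.rels) := Nat.finite_of_card_ne_zero h120.2
  have hlow : ∀ x, x < 3 → pg Good.cert.g Good.cert.rels x ∈ ψ.range := fun x hx =>
    ⟨pg _ _ x, toG_pg _ _ _ (show x < Cox.cert.g from hx)⟩
  have hrel : ∀ {x : ℕ} {w : List ℕ}, (x :: w) ∈ Good.cert.rels → (∀ y ∈ w, y < 3) →
      pg Good.cert.g Good.cert.rels x ∈ ψ.range := by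
    intro x w hw hy
    have h := pg_rel (n := Good.cert.g) hw
    rw [wv_cons] at h
    rw [eq_inv_of_mul_eq_one_left h]
    refine inv_mem (Subgroup.list_prod_mem _ fun a ha => ?_)
    obtain ⟨y, hy', rfl⟩ := List.mem_map.1 ha
    exact hlow y (hy y hy')
  obtain ⟨h5, h6, h8, h89, hsubs⟩ := good_words
  have h9 : pg Good.cert.g Good.cert.rels 9 ∈ ψ.range := by
    have h := pg_rel (n := Good.cert.g) h89
    rw [wv_cons, wv_cons, wv_nil, mul_one] at h
    rw [eq_inv_of_mul_eq_one_right h]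
    exact inv_mem (hrel h8 (by decide))
  have hsub : ∀ r ∈ Good.cert.subs, wv (pg Good.cert.g Good.cert.rels) r ∈ ψ.range := by
    intro r hr
    obtain ⟨x, hx, rfl⟩ := hsubs r hr
    rw [wv_cons, wv_nil, mul_one]
    simp only [List.mem_cons, List.not_mem_nil, or_false] at hx
    rcases hx with rfl | rfl | rfl | rfl | rfl | rfl | rfl
    exacts [hlow 0 (by omega), hlow 1 (by omega), hlow 2 (by omega), hrel h5 (by decide),
      hrel h6 (by decide), hrel h8 (by decide), h9]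
  obtain ⟨hi, hfi⟩ := Cert.index_le (presModel Good.cert good_lt good_inv ψ.range hsub) Good.valid
  change ψ.range.index ≤ 1463 at hi
  change ψ.range.FiniteIndex at hfi
  have hr : Nat.card ψ.range ≤ 120 :=
    (Nat.card_le_card_of_surjective ψ.rangeRestrict ψ.rangeRestrict_surjective).trans h120.1
  haveI : Finite ψ.range := Finite.of_surjective _ ψ.rangeRestrict_surjective
  have hne : Nat.card P10 ≠ 0 := by
    rw [← ψ.range.card_mul_index]
    exact mul_ne_zero Nat.card_pos.ne' hfi.index_ne_zero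
  refine ⟨Nat.finite_of_card_ne_zero hne, ?_⟩
  rw [← ψ.range.card_mul_index]
  calc _ ≤ 120 * 1463 := Nat.mul_le_mul hr hi
    _ = 175560 := by norm_num

theorem mdl_decomp : ∀ m : Mdl, ∃ i : Fin 8, ∃ j : Fin 3, ∃ k : Fin 5,
    m = SM i * rM ^ (j : ℕ) * (s1M * s2M) ^ (k : ℕ) := by decide +kernel

theorem rM_word : (∀ x ∈ [1, 8, 0], x ∈ Lts) ∧ wv Mf [1, 8, 0] = rM := by decide +kernel

/-- A simple group with the centralizer of `J1` is the presented group. -/
theorem equiv_P10 {G : Type u} [Group G] [Finite G] [IsSimpleGroup G] {t : G} (D₀ : Cen t) :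
    Nonempty (P10 ≃* G) := by
  classical
  have hG := D₀.card_eq
  obtain ⟨D, v, hA, hc⟩ := exists_good (D := D₀) hG
  let X := lX D v (cjV D (v ^ 3) s3M)
  let φ : P10 →* G := toG Good.cert.g Good.cert.rels X good_lt (hA.good_rels hc)
  have hX : ∀ x, x < 10 → X x ∈ φ.range := fun x hx =>
    ⟨pg _ _ x, toG_pg _ _ _ (show x < Good.cert.g from hx)⟩
  have hw : ∀ w : List ℕ, (∀ x ∈ w, x ∈ Lts) → D.val (wv Mf w) ∈ φ.range := by
    intro w hw
    rw [← wv_val D v (cjV D (v ^ 3) s3M) hw]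
    refine Subgroup.list_prod_mem _ fun a ha => ?_
    obtain ⟨x, hx, rfl⟩ := List.mem_map.1 ha
    have := hw x hx
    simp only [Lts, List.mem_cons, List.not_mem_nil, or_false] at this
    exact hX x (by omega)
  have hC : ∀ m, D.val m ∈ φ.range := by
    intro m
    obtain ⟨i, j, k, rfl⟩ := mdl_decomp m
    rw [D.val_mul, D.val_mul, D.val_pow, D.val_pow, D.val_mul]
    refine mul_mem (mul_mem ?_ (pow_mem ?_ _)) (pow_mem (mul_mem (hX 0 (by omega))
      (hX 1 (by omega))) _)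
    · rw [← (wS_ok i).2.2.1]
      exact hw _ (wS_ok i).1
    · rw [← rM_word.2]
      exact hw _ rM_word.1
  have htop := hA.whole hG φ.range hC (hX 3 (by omega))
  obtain ⟨hfin, hle⟩ := card_P10
  haveI := hfin
  have hsurj : Function.Surjective φ := MonoidHom.range_eq_top.1 htop
  refine ⟨MulEquiv.ofBijective φ ((Nat.bijective_iff_surjective_and_card φ).2 ⟨hsurj, ?_⟩)⟩
  exact le_antisymm (by omega) (Nat.card_le_card_of_surjective φ hsurj)

/-- The centralizer data of `J1`. -/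
theorem exists_cen_J1 : ∃ t : Cfsg.Spor.J1, Nonempty (Cen t) := by
  haveI : Fact (Nat.Prime 2) := ⟨Nat.prime_two⟩
  have ho : orderOf (CfsgLib.J1Group.rep 1) = 2 :=
    (CfsgLib.J1Group.orderOf_rep 1).trans (by decide +kernel)
  obtain ⟨e⟩ := CfsgLib.J1Group.centralizer_rep_one_iso
  refine ⟨_, ⟨ho, ?_, e⟩⟩
  refine twoCentral_of_dvd ho e ?_
  rw [CfsgLib.J1Group.natCard_J1]
  norm_num

/-- A simple group with the centralizer of `J1` is `J1`. -/
theorem iso_J1 {G : Type u} [Group G] [Finite G] [IsSimpleGroup G] {t : G} (D : Cen t) :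
    Cfsg.Spor.IsoJ1 G := by
  haveI := CfsgLib.J1Group.isSimpleGroup_J1
  obtain ⟨t₀, ⟨D₀⟩⟩ := exists_cen_J1
  obtain ⟨e⟩ := equiv_P10 D
  obtain ⟨e₀⟩ := equiv_P10 D₀
  exact ⟨e.symm.trans e₀⟩

end CfsgLib.J1Unique
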