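import Cfsg.Agent.Lib.J1Unique.OrderCount
import Cfsg.Agent.Lib.JanOrder.Model
import Cfsg.Agent.Lib.J1Unique.Central
import Cfsg.Agent.Lib.Recog.OrderSixty

/-!
# The centralizer of an involution in a simple group of order 175560
-/

set_option autoImplicit false
set_option linter.unusedSectionVars false
set_option linter.style.haveILetI false

namespace CfsgLib.J1Unique.Order

open Subgroup CfsgLib.Small CfsgLib.LocalEven.J1Order

universe u

theorem two_facts : (∀ a : Multiplicative (ZMod 2), a = 1 ∨ a = Multiplicative.ofAdd 1) ∧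
    (Multiplicative.ofAdd 1 : Multiplicative (ZMod 2)) ≠ 1 ∧
    (Multiplicative.ofAdd 1 : Multiplicative (ZMod 2)) * Multiplicative.ofAdd 1 = 1 := by decide

/-- A group of order `120` with a central involution `t`, six Sylow `5`-subgroups and elementary
abelian Sylow `2`-subgroups is `2 × A₅`. -/
theorem equiv_mdl {C : Type u} [Group C] [Finite C] (hc : Nat.card C = 120) {t : C}
    (ht : orderOf t = 2) (hcen : ∀ g : C, g * t = t * g)
    (h5 : 24 ≤ Nat.card {y : C // orderOf y = 5}) (h4 : ∀ g : C, orderOf g ≠ 4) :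
    Nonempty (C ≃* CfsgLib.JanOrder.Mdl) := by
  classical
  haveI := Fact.mk Nat.prime_two
  haveI := Fact.mk Nat.prime_five
  set Z := zpowers t with hZ
  haveI : Z.Normal := ⟨fun z hz g => by
    obtain ⟨i, rfl⟩ := hz
    show g * t ^ i * g⁻¹ ∈ Z
    rw [((show Commute g t from hcen g).zpow_right i).eq, mul_inv_cancel_right]
    exact zpow_mem (mem_zpowers t) i⟩
  have hZc : Nat.card Z = 2 := by rw [hZ, Nat.card_zpowers, ht]
  have hQ : Nat.card (C ⧸ Z) = 60 := by
    have h := Z.card_eq_card_quotient_mul_card_subgroup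
    rw [hc, hZc] at h
    omega
  have hsimple : IsSimpleGroup (C ⧸ Z) := by
    obtain ⟨hP5, h1 | h6⟩ := CfsgLib.Recog.card_sylow_five hQ
    · exfalso
      haveI : Subsingleton (Sylow 5 (C ⧸ Z)) := (Nat.card_eq_one_iff_unique.1 h1).1
      obtain ⟨P⟩ : Nonempty (Sylow 5 (C ⧸ Z)) := inferInstance
      set K := (P : Subgroup (C ⧸ Z)).comap (QuotientGroup.mk' Z) with hK
      have hKc : Nat.card K = 10 := by
        have h1 := K.card_mul_index
        rw [hK, index_comap_of_surjective _ (QuotientGroup.mk'_surjective Z), ← hK, hc] at h1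
        have h2 := (P : Subgroup (C ⧸ Z)).card_mul_index
        rw [hP5, hQ] at h2
        have h3 : (P : Subgroup (C ⧸ Z)).index = 12 := by omega
        rw [h3] at h1
        omega
      have hin : ∀ y : {y : C // orderOf y = 5}, (y : C) ∈ K := by
        rintro ⟨y, hy⟩
        rw [hK, mem_comap]
        have hp : IsPGroup 5 (zpowers (QuotientGroup.mk' Z y)) := by
          rcases (Nat.dvd_prime Nat.prime_five).1 (hy ▸ orderOf_map_dvd (QuotientGroup.mk' Z) y)
            with hj | hj
          · exact IsPGroup.of_card (n := 0) (by rw [Nat.card_zpowers, hj, pow_zero])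
          · exact IsPGroup.of_card (n := 1) (by rw [Nat.card_zpowers, hj, pow_one])
        obtain ⟨Q, hQ'⟩ := hp.exists_le_sylow
        rw [Subsingleton.elim P Q]
        exact hQ' (mem_zpowers _)
      have := Nat.card_le_card_of_injective (fun y => (⟨_, hin y⟩ : K))
        (fun a b h => Subtype.ext (congrArg (fun z : K => (z : C)) h))
      omega
    · exact CfsgLib.Recog.isSimpleGroup_of_six hQ h6
  haveI := hsimple
  obtain ⟨e⟩ := equiv_alternating_five hQ
  obtain ⟨S⟩ : Nonempty (Sylow 2 C) := inferInstance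
  have hS8 : Nat.card (S : Subgroup C) = 8 := by
    simpa using card_sylow_eq (p := 2) 3 15 (by rw [hc]; norm_num) (by norm_num) S
  have hsq : ∀ s : (S : Subgroup C), s * s = 1 := by
    intro s
    obtain ⟨j, hj⟩ := IsPGroup.iff_orderOf.1 S.isPGroup' s
    rcases Nat.lt_or_ge j 2 with h | h
    · rw [← pow_two, ← orderOf_dvd_iff_pow_eq_one, hj]
      exact (pow_dvd_pow 2 (show j ≤ 1 by omega)).trans (by norm_num)
    · exfalso
      refine h4 ((s : C) ^ 2 ^ (j - 2)) ?_
      rw [← Subgroup.orderOf_coe] at hj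
      rw [orderOf_pow_of_dvd (by positivity) (hj ▸ pow_dvd_pow 2 (by omega)), hj,
        Nat.pow_div (by omega) (by norm_num)]
      rw [show j - (j - 2) = 2 by omega]
  haveI : IsMulCommutative (S : Subgroup C) := ⟨⟨fun a b => by
    have hi : ∀ s : (S : Subgroup C), s⁻¹ = s := fun s => inv_eq_of_mul_eq_one_right (hsq s)
    rw [← hi (a * b), mul_inv_rev, hi, hi]⟩⟩
  open scoped IsMulCommutative in
  let f : C →* (S : Subgroup C) := MonoidHom.transfer (MonoidHom.id (S : Subgroup C))
  have hidx : (S : Subgroup C).index = 15 := by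
    have h := (S : Subgroup C).card_mul_index
    rw [hS8, hc] at h
    omega
  have hft : f t ≠ 1 := by
    intro h
    have h2 := MonoidHom.transfer_eq_pow (MonoidHom.id (S : Subgroup C)) t (fun k g₀ _ => by
      rw [((show Commute g₀ t from hcen g₀).pow_right k).inv_mul_cancel])
    change f t = _ at h2
    rw [h] at h2
    have h3 : t ^ (S : Subgroup C).index = 1 := (congrArg Subtype.val h2).symm
    rw [hidx] at h3
    have h4 := orderOf_dvd_of_pow_eq_one h3
    rw [ht] at h4
    norm_num at h4
  set K := f.ker with hKdef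
  let q : K →* C ⧸ Z := (QuotientGroup.mk' Z).comp K.subtype
  have hqinj : Function.Injective q := by
    rw [← MonoidHom.ker_eq_bot_iff, eq_bot_iff]
    intro x hx
    rw [MonoidHom.mem_ker, MonoidHom.comp_apply, QuotientGroup.mk'_apply,
      QuotientGroup.eq_one_iff] at hx
    rw [mem_bot]
    obtain ⟨n, hn⟩ := (isOfFinOrder_of_finite t).mem_powers_iff_mem_zpowers.2 hx
    have hn' : t ^ n = (x : C) := hn
    rw [← pow_mod_orderOf, ht] at hn'
    rcases Nat.mod_two_eq_zero_or_one n with h | h <;> rw [h] at hn'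
    · exact Subtype.ext (hn'.symm.trans (pow_zero t))
    · exfalso
      refine hft ?_
      rw [pow_one] at hn'
      rw [hn']
      exact MonoidHom.mem_ker.1 x.2
  have hqsurj : Function.Surjective q := by
    rw [← MonoidHom.range_eq_top]
    haveI : (q.range).Normal := by
      rw [MonoidHom.range_comp, range_subtype]
      exact Subgroup.Normal.map inferInstance _ (QuotientGroup.mk'_surjective Z)
    refine (IsSimpleGroup.eq_bot_or_eq_top_of_normal q.range inferInstance).resolve_left fun h => ?_
    have hK1 : Nat.card K ≤ 1 := by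
      rw [Nat.card_congr (MonoidHom.ofInjective hqinj).toEquiv, h, card_bot]
    have h1 := K.card_mul_index
    have h2 : K.index ∣ 8 := by
      rw [hKdef, index_ker, ← hS8]
      exact card_subgroup_dvd_card _
    have h3 := Nat.le_of_dvd (by norm_num) h2
    rw [hc] at h1
    nlinarith
  let eK : K ≃* alternatingGroup (Fin 5) :=
    (MulEquiv.ofBijective q ⟨hqinj, hqsurj⟩).trans e
  have hKc : Nat.card K = 60 := by rw [← hQ]; exact Nat.card_eq_of_bijective q ⟨hqinj, hqsurj⟩
  have htt : t * t = 1 := by rw [← pow_two, ← ht, pow_orderOf_eq_one]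
  have h01 := two_facts.1
  have hne := two_facts.2.1
  let ψ : CfsgLib.JanOrder.Mdl → C := fun p => (if p.1 = 1 then 1 else t) * (eK.symm p.2 : C)
  have hmul : ∀ p r, ψ (p * r) = ψ p * ψ r := by
    rintro ⟨a, x⟩ ⟨b, y⟩
    have hx : (eK.symm x : C) * t = t * (eK.symm x : C) := hcen _
    show (if a * b = 1 then 1 else t) * (eK.symm (x * y) : C) =
      (if a = 1 then 1 else t) * (eK.symm x : C) * ((if b = 1 then 1 else t) * (eK.symm y : C))
    rw [map_mul, Subgroup.coe_mul]
    rcases h01 a with rfl | rfl <;> rcases h01 b with rfl | rfl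
    · simp
    · rw [one_mul, if_neg hne, if_pos rfl, one_mul, ← mul_assoc (eK.symm x : C), hx]
      simp only [mul_assoc]
    · rw [mul_one, if_neg hne, if_pos rfl, one_mul]
      simp only [mul_assoc]
    · rw [two_facts.2.2, if_pos rfl, if_neg hne, one_mul]
      simp only [mul_assoc]
      rw [← mul_assoc (eK.symm x : C) t, hx, ← mul_assoc t, ← mul_assoc t t, htt, one_mul]
  have hinj : Function.Injective (MonoidHom.mk' ψ hmul) := by
    rw [← MonoidHom.ker_eq_bot_iff, eq_bot_iff]
    rintro ⟨a, x⟩ hp
    rw [MonoidHom.mem_ker] at hp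
    change (if a = 1 then 1 else t) * (eK.symm x : C) = 1 at hp
    rw [mem_bot]
    rcases h01 a with rfl | rfl
    · rw [if_pos rfl, one_mul] at hp
      have : eK.symm x = 1 := Subtype.ext hp
      rw [MulEquiv.map_eq_one_iff] at this
      rw [this]; rfl
    · exfalso
      rw [if_neg hne] at hp
      refine hft ?_
      rw [eq_inv_of_mul_eq_one_left hp, map_inv, MonoidHom.mem_ker.1 (eK.symm x).2, inv_one]
  refine ⟨(MulEquiv.ofBijective (MonoidHom.mk' ψ hmul)
    ((Nat.bijective_iff_injective_and_card _).2 ⟨hinj, ?_⟩)).symm⟩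
  rw [hc, Nat.card_eq_fintype_card, CfsgLib.JanOrder.card_mdl]

variable {G : Type u} [Group G] [Finite G] [IsSimpleGroup G] (hG : Nat.card G = 175560)

include hG

/-- The first case of the local data. -/
theorem count_of_data {p n e k c : ℕ} (hR : Real G (p, n, e, k)) (hk : k % 2 = 0)
    (hc : ∀ u : G, orderOf u = 2 → Nat.card (centralizer ({u} : Set G)) = c) {s : ℕ}
    (hs : ∀ m d : ℕ, m % p = 1 → m * p * d = c → d ∣ e * k → evenReq e ∣ d → m = s) {u : G}
    (hu : orderOf u = 2) : Nat.card {y : G // orderOf y = p ∧ Commute u y} = s * (p - 1) := by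
  obtain ⟨m, d, hm, hmd, hde, hev, hcount⟩ := local_count hG hR hk hu
  rw [hcount, hs m d hm (hmd.trans (hc u hu)) hde hev]

/-- The smaller centralizer does not occur. -/
theorem not_small {t : G} (ht : orderOf t = 2) {acc : List Datum} (hacc : ∀ x ∈ acc, Real G x)
    (hnd : (acc.map Prod.fst).Nodup) (hok : ordersOK acc = true)
    (hC : Nat.card (centralizer ({t} : Set G)) = 24) (hR : Real G (3, 7315, 2, 4))
    (hsum : oddSum acc + 7315 * 3 = 175560) : False := by
  classical
  haveI := Fact.mk Nat.prime_two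
  haveI := Fact.mk Nat.prime_three
  have hc : ∀ u : G, orderOf u = 2 → Nat.card (centralizer ({u} : Set G)) = 24 := fun u hu =>
    (card_cent_eq hG ht hu).trans hC
  have hcount : ∀ u : G, orderOf u = 2 → Nat.card {y : G // orderOf y = 3 ∧ Commute u y} = 2 :=
    fun u hu => by
      refine (count_of_data hG hR (by norm_num) hc (s := 1) (fun m d hm hmd hde hev => ?_) hu)
      rw [evenReq, if_pos (by norm_num)] at hev
      have hd8 : d ≤ 8 := Nat.le_of_dvd (by norm_num) hde
      interval_cases d <;> omega
  have hi : Nat.card {g : G // orderOf g = 2} = 7315 := by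
    have := card_inv hG ht
    rw [hC] at this
    omega
  have h4 : ∀ g : G, orderOf g ≠ 4 := by
    intro g hg
    haveI : Nonempty {g : G // orderOf g = 4} := ⟨⟨g, hg⟩⟩
    have h6 := card_two_mul hG (p := 3) Nat.prime_three (by norm_num) (s := 2)
      fun u hu => (hcount u hu).ge
    rw [hi] at h6
    have := sum_le hG hacc hnd hok [(2, 7315), (4, 1), (6, 14630)] (by simp) (fun x hx => by
      simp only [List.mem_cons, List.not_mem_nil, or_false] at hx
      rcases hx with rfl | rfl | rfl
      exacts [hi.ge, Nat.card_pos, h6])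
    simp at this
    omega
  obtain ⟨P⟩ := (inferInstance : Nonempty (Sylow 3 G))
  obtain ⟨hPc, hPC, hPN⟩ := hR.2.2.2.2.2 P
  obtain ⟨y, hy⟩ := exists_prime_orderOf_dvd_card' (G := (P : Subgroup G)) 3 (by rw [hPc])
  have hyo : orderOf (y : G) = 3 := by rw [Subgroup.orderOf_coe, hy]
  have hPy : (P : Subgroup G) = zpowers (y : G) :=
    (eq_of_le_of_card_ge (zpowers_le.2 y.2) (by rw [hPc, Nat.card_zpowers, hyo])).symm
  -- two involutions centralizing `P`
  obtain ⟨V, hV⟩ := Sylow.exists_subgroup_card_pow_prime 2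
    (G := centralizer ((P : Subgroup G) : Set G)) (n := 2) (by rw [hPC]; norm_num)
  have hord : ∀ v : V, v ≠ 1 → orderOf ((v : centralizer ((P : Subgroup G) : Set G)) : G) = 2 := by
    intro v hv
    have hd := orderOf_dvd_natCard v
    rw [hV] at hd
    obtain ⟨j, hj, hj'⟩ := (Nat.dvd_prime_pow Nat.prime_two).1 hd
    rw [Subgroup.orderOf_coe, Subgroup.orderOf_coe, hj']
    interval_cases j
    · exact absurd (orderOf_eq_one_iff.1 hj') hv
    · rfl
    · refine absurd ?_ (h4 ((v : centralizer ((P : Subgroup G) : Set G)) : G))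
      rw [Subgroup.orderOf_coe, Subgroup.orderOf_coe, hj']; norm_num
  haveI := Fintype.ofFinite V
  obtain ⟨a, ha⟩ : ∃ a : V, a ∉ ({1} : Finset V) := by
    by_contra h
    push Not at h
    have := Finset.card_le_card (fun x _ => h x : (Finset.univ : Finset V) ⊆ {1})
    rw [Finset.card_univ, ← Nat.card_eq_fintype_card, hV] at this
    simp at this
  obtain ⟨b, hb⟩ : ∃ b : V, b ∉ ({1, a} : Finset V) := by
    by_contra h
    push Not at h
    have := (Finset.card_le_card (fun x _ => h x : (Finset.univ : Finset V) ⊆ {1, a})).trans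
      Finset.card_le_two
    rw [Finset.card_univ, ← Nat.card_eq_fintype_card, hV] at this
    norm_num at this
  simp only [Finset.mem_singleton] at ha
  simp only [Finset.mem_insert, Finset.mem_singleton, not_or] at hb
  obtain ⟨u, hu'⟩ : ∃ u, u = ((a : centralizer ((P : Subgroup G) : Set G)) : G) := ⟨_, rfl⟩
  obtain ⟨w, hw'⟩ : ∃ w, w = ((b : centralizer ((P : Subgroup G) : Set G)) : G) := ⟨_, rfl⟩
  have huo : orderOf u = 2 := hu' ▸ hord a ha
  have hwo : orderOf w = 2 := hw' ▸ hord b hb.1
  have hne : u ≠ w := fun h => hb.2 (Subtype.ext (Subtype.ext (hw'.symm.trans (h.symm.trans hu'))))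
  have huy : Commute u (y : G) := by
    rw [hu']
    exact (mem_centralizer_iff.1 (a : centralizer ((P : Subgroup G) : Set G)).2 y y.2).symm
  have hwy : Commute w (y : G) := by
    rw [hw']
    exact (mem_centralizer_iff.1 (b : centralizer ((P : Subgroup G) : Set G)).2 y y.2).symm
  -- the elements of order three centralizing such an involution lie in `P`
  have hin : ∀ v : G, orderOf v = 2 → Commute v (y : G) → ∀ z : G, orderOf z = 3 → Commute v z →
      z ∈ (P : Subgroup G) := by
    intro v hv hvy z hz hvz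
    by_contra hzP
    haveI := Fintype.ofFinite G
    have h2o : orderOf ((y : G) ^ 2) = 3 := by
      rw [orderOf_pow' _ (by norm_num), hyo]; norm_num
    have hsub : ({(y : G), (y : G) ^ 2, z} : Finset G) ⊆
        Finset.univ.filter fun x => orderOf x = 3 ∧ Commute v x := by
      intro x hx
      simp only [Finset.mem_insert, Finset.mem_singleton] at hx
      rw [Finset.mem_filter]
      rcases hx with rfl | rfl | rfl
      exacts [⟨Finset.mem_univ _, hyo, hvy⟩, ⟨Finset.mem_univ _, h2o, hvy.pow_right 2⟩,
        ⟨Finset.mem_univ _, hz, hvz⟩]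
    have n1 : (y : G) ≠ (y : G) ^ 2 := fun h => by
      have h' : orderOf (y : G) = 1 := by
        rw [pow_two] at h
        rw [mul_eq_left.1 h.symm, orderOf_one]
      omega
    have n2 : (y : G) ≠ z := fun h => hzP (h ▸ y.2)
    have n3 : (y : G) ^ 2 ≠ z := fun h => hzP (h ▸ pow_mem y.2 2)
    have h3 := Finset.card_le_card hsub
    rw [Finset.card_eq_three.2 ⟨_, _, _, n1, n2, n3, rfl⟩,
      ← Fintype.card_subtype, ← Nat.card_eq_fintype_card, hcount v hv] at h3
    omega
  have hnorm : ∀ g : G, g * (y : G) * g⁻¹ ∈ (P : Subgroup G) →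
      g ∈ normalizer ((P : Subgroup G) : Set G) := by
    intro g hg
    have hz : (P : Subgroup G).map (MulAut.conj g).toMonoidHom = (P : Subgroup G) := by
      refine eq_of_le_of_card_ge ?_ ?_
      · rw [hPy, MonoidHom.map_zpowers, zpowers_le, ← hPy]
        exact hg
      · rw [card_map_of_injective (MulAut.conj g).injective]
    rw [mem_normalizer_iff]
    intro x
    constructor
    · intro hx
      rw [← hz]
      exact ⟨x, hx, rfl⟩
    · intro hx
      rw [← hz] at hx
      obtain ⟨x', hx', e⟩ := hx
      exact (MulAut.conj g).injective e ▸ hx'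
  have hCu : centralizer ({u} : Set G) = normalizer ((P : Subgroup G) : Set G) := by
    refine eq_of_le_of_card_ge (fun g hg => hnorm g (hin u huo huy _ ?_ ?_)) ?_
    · exact ((MulAut.conj g).orderOf_eq (y : G)).trans hyo
    · have h := Commute.map huy (MulAut.conj g)
      rwa [MulAut.conj_apply, MulAut.conj_apply, mem_centralizer_singleton_iff.1 hg,
        mul_inv_cancel_right] at h
    · rw [hc u huo, hPN]
  obtain ⟨g, hg⟩ := conj_involution hG huo hwo
  have hmem : g ∈ normalizer ((P : Subgroup G) : Set G) := by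
    refine hnorm g (hin w hwo hwy _ (((MulAut.conj g).orderOf_eq (y : G)).trans hyo) ?_)
    rw [← hg]
    exact Commute.map huy (MulAut.conj g)
  rw [← hCu, mem_centralizer_singleton_iff] at hmem
  rw [hmem, mul_inv_cancel_right] at hg
  exact hne hg

/-- The centralizers of involutions are `2 × A₅`. -/
theorem cen_exists : ∃ t : G, Nonempty (CfsgLib.JanOrder.Cen t) := by
  classical
  haveI := Fact.mk Nat.prime_two
  obtain ⟨t, ht⟩ := exists_prime_orderOf_dvd_card' (G := G) 2 (by rw [hG]; norm_num)
  obtain ⟨acc, hacc, hnd, hok, h | h⟩ := cases_of_involution hG ht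
  swap
  · exact (not_small hG ht hacc hnd hok h.1 h.2.1 h.2.2).elim
  obtain ⟨hC, hR3, hR5, hsum⟩ := h
  have hc : ∀ u : G, orderOf u = 2 → Nat.card (centralizer ({u} : Set G)) = 120 := fun u hu =>
    (card_cent_eq hG ht hu).trans hC
  have h3 : ∀ u : G, orderOf u = 2 → Nat.card {y : G // orderOf y = 3 ∧ Commute u y} = 20 :=
    fun u hu => by
      refine count_of_data hG hR3 (by norm_num) hc (s := 10) (fun m d hm hmd hde hev => ?_) hu
      rw [evenReq, if_pos (by norm_num)] at hev
      have hd8 : d ≤ 20 := Nat.le_of_dvd (by norm_num) hde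
      interval_cases d <;> omega
  have h5 : ∀ u : G, orderOf u = 2 → Nat.card {y : G // orderOf y = 5 ∧ Commute u y} = 24 :=
    fun u hu => by
      refine count_of_data hG hR5 (by norm_num) hc (s := 6) (fun m d hm hmd hde hev => ?_) hu
      rw [evenReq, if_pos (by norm_num)] at hev
      have hd8 : d ≤ 12 := Nat.le_of_dvd (by norm_num) hde
      interval_cases d <;> omega
  have hi : Nat.card {g : G // orderOf g = 2} = 1463 := by
    have := card_inv hG ht
    rw [hC] at this
    omega
  have h4 : ∀ g : G, orderOf g ≠ 4 := by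
    intro g hg
    haveI : Nonempty {g : G // orderOf g = 4} := ⟨⟨g, hg⟩⟩
    have h6 := card_two_mul hG (p := 3) Nat.prime_three (by norm_num) (s := 20)
      fun u hu => (h3 u hu).ge
    have h10 := card_two_mul hG (p := 5) Nat.prime_five (by norm_num) (s := 24)
      fun u hu => (h5 u hu).ge
    rw [hi] at h6 h10
    have := sum_le hG hacc hnd hok [(2, 1463), (4, 1), (6, 29260), (10, 35112)] (by simp)
      (fun x hx => by
        simp only [List.mem_cons, List.not_mem_nil, or_false] at hx
        rcases hx with rfl | rfl | rfl | rfl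
        exacts [hi.ge, Nat.card_pos, h6, h10])
    simp at this
    omega
  have htC : t ∈ centralizer ({t} : Set G) := mem_centralizer_singleton_iff.2 rfl
  obtain ⟨e⟩ := equiv_mdl hC (t := ⟨t, htC⟩) (by rw [Subgroup.orderOf_mk, ht])
    (fun g => Subtype.ext (mem_centralizer_singleton_iff.1 g.2))
    (by
      rw [← h5 t ht]
      refine (Nat.card_congr
        { toFun := fun y => ⟨⟨y.1, mem_centralizer_singleton_iff.2 y.2.2.eq.symm⟩,
            (Subgroup.orderOf_mk _ _).trans y.2.1⟩
          invFun := fun y => ⟨y.1.1, (Subgroup.orderOf_coe _).trans y.2,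
            (mem_centralizer_singleton_iff.1 y.1.2).symm⟩
          left_inv := fun _ => rfl
          right_inv := fun _ => rfl }).le)
    (fun g => by rw [← Subgroup.orderOf_coe]; exact h4 _)
  exact ⟨t, ⟨ht, twoCentral_of_dvd ht e (by rw [hG]; norm_num), e⟩⟩

end CfsgLib.J1Unique.Order
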