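import Cfsg.Agent.Lib.J1Unique.OrderLocal

/-!
# The two possible orders of an involution centralizer
-/

set_option autoImplicit false
set_option linter.unusedSectionVars false
set_option linter.style.haveILetI false

namespace CfsgLib.J1Unique.Order

open Subgroup CfsgLib.Small CfsgLib.LocalEven.J1Order

universe u

variable {G : Type u} [Group G] [Finite G] [IsSimpleGroup G] (hG : Nat.card G = 175560)

include hG

theorem exists_real {p m : ℕ} (hp : p.Prime) (hodd : p ≠ 2) (hm : 175560 = p * m) (hd : ¬ p ∣ m)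
    (hopt : ∀ o ∈ primeOptions 175560 p m, ∃ row ∈ opts, row.1 = p ∧ o ∈ row.2) :
    ∃ row ∈ opts, row.1 = p ∧ ∃ o ∈ row.2, Real G (p, o) := by
  haveI := Fact.mk hp
  obtain ⟨P, n, e, k, hPc, hn, hmem, -, hC, hN, -⟩ :=
    exists_prime_option (not_comm hG) hG p m hm hd hodd
  obtain ⟨row, hrow, h1, h2⟩ := hopt _ hmem
  refine ⟨row, hrow, h1, _, h2, hp, hodd, hG ▸ ⟨m, hm⟩, fun h => ?_, hn, fun Q => ?_⟩
  · rw [hG, hm, pow_two] at h
    exact hd (Nat.dvd_of_mul_dvd_mul_left hp.pos h)
  · obtain ⟨g, rfl⟩ := MulAction.exists_smul_eq G P Q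
    refine ⟨?_, (card_centralizer_sylow_eq _ P).trans hC, ?_⟩
    · exact ((g • P).card_eq_multiplicity.trans P.card_eq_multiplicity.symm).trans hPc
    · rw [← hN]
      have h1 := card_sylow_eq_index (g • P)
      have h2 := card_sylow_eq_index P
      have h3 := (normalizer (((g • P : Sylow p G) : Subgroup G) : Set G)).card_mul_index
      have h4 := (normalizer ((P : Subgroup G) : Set G)).card_mul_index
      rw [← h1] at h3
      rw [← h2] at h4
      exact Nat.eq_of_mul_eq_mul_right Nat.card_pos (h3.trans h4.symm)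

/-- Five real data compatible with every row. -/
theorem rows : ∀ row ∈ opts, ∃ o ∈ row.2, Real G (row.1, o) := by
  have h : ∀ p ∈ [19, 11, 7, 5, 3], ∃ row ∈ opts, row.1 = p ∧ ∃ o ∈ row.2, Real G (p, o) := by
    intro p hp
    simp only [List.mem_cons, List.not_mem_nil, or_false] at hp
    rcases hp with rfl | rfl | rfl | rfl | rfl
    exacts [exists_real hG (m := 9240) (by norm_num) (by norm_num) (by norm_num) (by norm_num) opts_19,
      exists_real hG (m := 15960) (by norm_num) (by norm_num) (by norm_num) (by norm_num) opts_11,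
      exists_real hG (m := 25080) (by norm_num) (by norm_num) (by norm_num) (by norm_num) opts_7,
      exists_real hG (m := 35112) (by norm_num) (by norm_num) (by norm_num) (by norm_num) opts_5,
      exists_real hG (m := 58520) (by norm_num) (by norm_num) (by norm_num) (by norm_num) opts_3]
  intro row hrow
  have huniq : ∀ r ∈ opts, ∀ r' ∈ opts, r.1 = r'.1 → r = r' := by decide +kernel
  obtain ⟨row', hr', he, o, ho, hR⟩ := h row.1 ((show ∀ r ∈ opts, r.1 ∈ [19, 11, 7, 5, 3] by
    decide +kernel) row hrow)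
  obtain rfl := huniq row' hr' row hrow he
  exact ⟨o, ho, hR⟩

theorem locOK_true {o : ℕ} {t : G} (ht : orderOf t = 2)
    (ho : Nat.card (centralizer ({t} : Set G)) = 8 * o) {x : Datum} (hx : Real G x) :
    locOK o x = true := by
  obtain ⟨p, n, e, k⟩ := x
  have hp := hx.1
  have hp2 := hx.2.1
  have hiff : o % p = 0 ↔ k % 2 = 0 := by
    rw [← dvd_iff hG hx ht, ho, ← Nat.dvd_iff_mod_eq_zero, hp.dvd_mul]
    refine ⟨Or.inr, fun h => h.resolve_left fun h8 => hp2 ?_⟩
    exact (Nat.prime_dvd_prime_iff_eq hp Nat.prime_two).1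
      (hp.dvd_of_dvd_pow (show p ∣ 2 ^ 3 from h8))
  simp only [locOK, Bool.and_eq_true, Bool.or_eq_true, beq_iff_eq, bne_iff_ne, List.any_eq_true,
    List.mem_range]
  refine ⟨by rw [Bool.eq_iff_iff, beq_iff_eq, beq_iff_eq]; exact hiff.symm, ?_⟩
  by_cases hk : k % 2 = 0
  · right
    obtain ⟨m, d, hm, hmd, hde, hev, -⟩ := local_count hG hx hk ht
    rw [ho] at hmd
    have hpos : 0 < e * k := by
      obtain ⟨P⟩ := (inferInstance : Nonempty (Sylow p G))
      have h := (hx.2.2.2.2.2 P).2.2
      have h0 : 0 < p * k * e := h ▸ Nat.card_pos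
      rw [mul_assoc] at h0
      rw [mul_comm e k]
      exact pos_of_mul_pos_right h0 (Nat.zero_le p)
    refine ⟨d, Nat.lt_succ_of_le (Nat.le_of_dvd hpos hde), ?_⟩
    have hdpos : 0 < d := Nat.pos_of_dvd_of_pos hde hpos
    refine ⟨⟨⟨Nat.mod_eq_zero_of_dvd hde, Nat.mod_eq_zero_of_dvd hev⟩, ?_⟩, ?_⟩
    · exact Nat.mod_eq_zero_of_dvd ⟨m, by rw [← hmd]; ring⟩
    · rw [← hmd, mul_assoc, Nat.mul_div_cancel _ (Nat.mul_pos hp.pos hdpos)]
      exact hm
  · exact Or.inl fun h => hk (hiff.1 h)

/-- The data attached to an involution. -/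
theorem exists_final {o : ℕ} {t : G} (ht : orderOf t = 2)
    (ho : Nat.card (centralizer ({t} : Set G)) = 8 * o) :
    ∀ (rest : List (ℕ × List (ℕ × ℕ × ℕ))) (acc : List Datum),
      (∀ row ∈ rest, ∃ x ∈ row.2, Real G (row.1, x)) → (∀ x ∈ acc, Real G x) →
      (rest.map Prod.fst ++ acc.map Prod.fst).Nodup → search o rest acc = true →
      ∃ acc' : List Datum, (∀ x ∈ acc', Real G x) ∧ (acc'.map Prod.fst).Nodup ∧ final o acc' = true
  | [], acc, _, hacc, hnd, hs => ⟨acc, hacc, by simpa using hnd, by simpa [search] using hs⟩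
  | (p, os) :: rest, acc, hrows, hacc, hnd, hs => by
    obtain ⟨x, hx, hreal⟩ := hrows (p, os) List.mem_cons_self
    simp only [search, List.all_eq_true, Bool.or_eq_true, Bool.not_eq_true'] at hs
    have hnd' : (rest.map Prod.fst ++ ((p, x) :: acc).map Prod.fst).Nodup := by
      refine List.Perm.nodup ?_ hnd
      simpa using (List.perm_middle (a := p) (l₁ := rest.map Prod.fst) (l₂ := acc.map Prod.fst)).symm
    rcases hs x hx with h | h
    · exfalso
      rw [Bool.and_eq_false_iff, locOK_true hG ht ho hreal] at h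
      replace h := h.resolve_left (by simp)
      rw [← Bool.not_eq_true, List.all_eq_true] at h
      push Not at h
      obtain ⟨⟨q, n', e', k'⟩, hy, hne⟩ := h
      obtain ⟨n, e, k⟩ := x
      refine hne (pair_facts hreal (hacc _ hy) fun he => ?_).1
      simp only [List.map_cons, List.cons_append, List.nodup_cons] at hnd
      exact hnd.1 (List.mem_append_right _ (List.mem_map.2 ⟨_, hy, he.symm⟩))
    · exact exists_final ht ho rest ((p, x) :: acc)
        (fun row hrow => hrows row (List.mem_cons_of_mem _ hrow))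
        (fun y hy => by
          rcases List.mem_cons.1 hy with rfl | hy
          · exact hreal
          · exact hacc y hy) hnd' h

/-- The bound coming from the elements inverted by involutions. -/
theorem inverted_le {p n e k : ℕ} (hR : Real G (p, n, e, k)) (hk : k % 2 = 1) (he : e % 2 = 0) :
    n * (p - 1) * p ≤ Nat.card {g : G // orderOf g = 2} * Nat.card {g : G // orderOf g = 2} := by
  classical
  obtain ⟨hp, hp2, -, -, hn, hP⟩ := hR
  haveI := Fact.mk hp
  haveI := Fact.mk Nat.prime_two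
  have hinv : ∀ x : {x : G // orderOf x = p}, ∃ w : G, orderOf w = 2 ∧ w * (x : G) * w⁻¹ = (x : G)⁻¹ := by
    rintro ⟨x, hx⟩
    obtain ⟨Q, hQ⟩ := zpowers_eq_sylow hx fun Q => (hP Q).1
    obtain ⟨w, hw⟩ := exists_prime_orderOf_dvd_card'
      (G := normalizer ((Q : Subgroup G) : Set G)) 2
      (by rw [(hP Q).2.2]; exact dvd_mul_of_dvd_right (Nat.dvd_of_mod_eq_zero he) _)
    refine ⟨(w : G), by rw [Subgroup.orderOf_coe, hw], ?_⟩
    have hwo : orderOf (w : G) = 2 := by rw [Subgroup.orderOf_coe, hw]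
    have hmem : (w : G) * x * (w : G)⁻¹ ∈ zpowers x := by
      rw [← hQ]
      exact (mem_normalizer_iff.1 w.2 x).1 (hQ ▸ mem_zpowers x)
    obtain ⟨i, hi⟩ := (isOfFinOrder_of_finite x).mem_powers_iff_mem_zpowers.2 hmem
    have hi' : x ^ i = (w : G) * x * (w : G)⁻¹ := hi
    have hww : (w : G) * w = 1 := by rw [← pow_two, ← hwo, pow_orderOf_eq_one]
    have h2 : x ^ (i * i) = x := by
      rw [pow_mul, hi', conj_pow, hi', inv_eq_of_mul_eq_one_right hww]
      simp only [mul_assoc, hww, mul_one]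
      rw [← mul_assoc, hww, one_mul]
    have hmod : i * i % p = 1 % p := by
      have := pow_eq_pow_iff_modEq.1 (h2.trans (pow_one x).symm)
      rwa [hx] at this
    have hfac : ((i : ZMod p) - 1) * ((i : ZMod p) + 1) = 0 := by
      have : ((i * i : ℕ) : ZMod p) = ((1 : ℕ) : ZMod p) := (ZMod.natCast_eq_natCast_iff' _ _ _).2 hmod
      push_cast at this
      linear_combination this
    rcases mul_eq_zero.1 hfac with h | h
    · exfalso
      have hx1 : (w : G) * x * (w : G)⁻¹ = x := by
        rw [← hi']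
        refine (pow_eq_pow_iff_modEq.2 ?_).trans (pow_one x)
        rw [hx]
        exact (ZMod.natCast_eq_natCast_iff' _ _ _).1 (by simpa [sub_eq_zero] using h)
      have hk0 := even_of_commute hG (t := (w : G)) (⟨hp, hp2, by
          rw [← hx]; exact orderOf_dvd_natCard x, by
          rw [hG]; exact fun hd => by
            have h3 : ∀ q, q.Prime → q ^ 2 ∣ 175560 → q = 2 := by
              intro q hq hq2
              have hq' : q ^ 2 ∣ 2 ^ 3 * 21945 := by norm_num; exact hq2
              by_contra hne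
              have hc : Nat.Coprime (q ^ 2) (2 ^ 3) :=
                ((Nat.coprime_primes hq Nat.prime_two).2 hne).pow _ _
              have h4 := hc.dvd_of_dvd_mul_left hq'
              have h5 : q ∣ 21945 := dvd_trans (dvd_pow_self q two_ne_zero) h4
              have h6 : ∀ q ∈ Nat.divisors 21945, q ^ 2 ∣ 21945 → q = 1 := by decide +kernel
              exact hq.ne_one (h6 q (Nat.mem_divisors.2 ⟨h5, by norm_num⟩) h4)
            exact hp2 (h3 p hp hd), hn, hP⟩ : Real G (p, n, e, k)) hx hwo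
        (mul_inv_eq_iff_eq_mul.1 hx1)
      omega
    · rw [← hi']
      refine eq_inv_of_mul_eq_one_left ?_
      rw [← pow_succ, ← orderOf_dvd_iff_pow_eq_one, hx, ← ZMod.natCast_eq_zero_iff]
      push_cast
      exact h
  choose w hw2 hwx using hinv
  have hsq : ∀ x : {x : G // orderOf x = p}, ∀ j : ℕ,
      orderOf (w x * (x : G) ^ j) = 2 := by
    intro x j
    have hww : w x * w x = 1 := by rw [← pow_two, ← hw2 x, pow_orderOf_eq_one]
    refine orderOf_eq_prime ?_ fun h => ?_
    · have hc : w x * (x : G) ^ j * w x = ((x : G) ^ j)⁻¹ := by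
        conv_lhs => arg 2; rw [← inv_eq_of_mul_eq_one_right hww]
        rw [← conj_pow, hwx, inv_pow]
      calc (w x * (x : G) ^ j) ^ 2 = w x * (x : G) ^ j * w x * (x : G) ^ j := by
            rw [pow_two]; simp only [mul_assoc]
        _ = 1 := by rw [hc, inv_mul_cancel]
    · have hd : orderOf (w x) ∣ p := by
        rw [eq_inv_of_mul_eq_one_left h, orderOf_inv]
        exact (orderOf_pow_dvd j).trans (dvd_of_eq x.2)
      rw [hw2 x] at hd
      exact hp2 ((Nat.prime_dvd_prime_iff_eq Nat.prime_two hp).1 hd).symm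
  let f : {x : G // orderOf x = p} × Fin p → {g : G // orderOf g = 2} × {g : G // orderOf g = 2} :=
    fun z => (⟨_, hsq z.1 z.2⟩, ⟨_, hsq z.1 ((z.2 : ℕ) + 1)⟩)
  have hf : Function.Injective f := by
    rintro ⟨x, i⟩ ⟨y, j⟩ h
    have h1 : w x * (x : G) ^ (i : ℕ) = w y * (y : G) ^ (j : ℕ) :=
      congrArg (fun z => ((z.1 : {g : G // orderOf g = 2}) : G)) h
    have h2 : w x * (x : G) ^ ((i : ℕ) + 1) = w y * (y : G) ^ ((j : ℕ) + 1) :=
      congrArg (fun z => ((z.2 : {g : G // orderOf g = 2}) : G)) h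
    rw [pow_succ, pow_succ, ← mul_assoc, ← mul_assoc, h1] at h2
    obtain rfl : x = y := Subtype.ext (mul_left_cancel h2)
    refine Prod.ext rfl (Fin.ext ?_)
    have h3 := pow_eq_pow_iff_modEq.1 (mul_left_cancel h1)
    rw [x.2, Nat.ModEq, Nat.mod_eq_of_lt i.2, Nat.mod_eq_of_lt j.2] at h3
    exact h3
  have h := Nat.card_le_card_of_injective f hf
  rwa [Nat.card_prod, Nat.card_prod, Nat.card_fin, card_orderOf_prime (fun Q => (hP Q).1), hn] at h

/-- Elements of order twice an odd prime. -/
theorem card_two_mul {p : ℕ} (hp : p.Prime) (hp2 : p ≠ 2) {s : ℕ}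
    (hs : ∀ u : G, orderOf u = 2 → s ≤ Nat.card {y : G // orderOf y = p ∧ Commute u y}) :
    Nat.card {g : G // orderOf g = 2} * s ≤ Nat.card {g : G // orderOf g = 2 * p} := by
  classical
  haveI := Fintype.ofFinite G
  refine le_trans ?_ (Nat.card_le_card_of_injective
    (fun z : Σ u : {g : G // orderOf g = 2}, {y : G // orderOf y = p ∧ Commute (u : G) y} =>
      (⟨(z.1 : G) * z.2.1, by
        rw [z.2.2.2.orderOf_mul_eq_mul_orderOf_of_coprime (by
          rw [z.1.2, z.2.2.1]; exact (Nat.coprime_primes Nat.prime_two hp).2 (Ne.symm hp2)),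
          z.1.2, z.2.2.1]⟩ : {g : G // orderOf g = 2 * p})) ?_)
  · rw [Nat.card_sigma, Nat.card_eq_fintype_card, ← Finset.card_univ, ← smul_eq_mul,
      ← Finset.sum_const]
    exact Finset.sum_le_sum fun u _ => hs u u.2
  · rintro ⟨⟨u, hu⟩, y, hy, hc⟩ ⟨⟨v, hv⟩, z, hz, hd⟩ h
    have h' : u * y = v * z := congrArg Subtype.val h
    obtain ⟨b, hb⟩ := hp.odd_of_ne_two hp2
    have key : ∀ a c : G, orderOf a = 2 → orderOf c = p → Commute a c → (a * c) ^ p = a := by
      intro a c ha hc' hac
      have h1 : a ^ 2 = 1 := ha ▸ pow_orderOf_eq_one a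
      have h2 : c ^ p = 1 := hc' ▸ pow_orderOf_eq_one c
      rw [hac.mul_pow, h2, mul_one, hb, pow_succ, pow_mul, h1, one_pow, one_mul]
    obtain rfl : u = v := by rw [← key u y hu hy hc, h', key v z hv hz hd]
    obtain rfl : y = z := mul_left_cancel h'
    rfl

theorem oddTerms_le {acc : List Datum} (hacc : ∀ x ∈ acc, Real G x)
    (hnd : (acc.map Prod.fst).Nodup) :
    ∀ t ∈ oddTerms acc, t.2 ≤ Nat.card {g : G // orderOf g = t.1} := by
  intro t ht
  simp only [oddTerms, List.cons_append, List.mem_cons, List.mem_append, List.mem_map] at ht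
  rcases ht with rfl | ⟨⟨p, n, e, k⟩, hx, rfl⟩ | ht
  · haveI : Nonempty {g : G // orderOf g = 1} := ⟨⟨1, orderOf_one⟩⟩
    exact Nat.card_pos
  · obtain ⟨hp, -, hd, h2, hn, -⟩ := hacc _ hx
    haveI := Fact.mk hp
    show n * (p - 1) ≤ _
    rw [card_orderOf_prime (card_sylow_of_sq hd h2), hn]
  · exact pairTerms_le acc hnd hacc t ht

/-- The elements counted by the lower bounds together with elements of some even orders. -/
theorem sum_le {acc : List Datum} (hacc : ∀ x ∈ acc, Real G x) (hnd : (acc.map Prod.fst).Nodup)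
    (hok : ordersOK acc = true) (E : List (ℕ × ℕ))
    (hE : (E.map Prod.fst).Sublist [2, 4, 6, 10])
    (hEle : ∀ t ∈ E, t.2 ≤ Nat.card {g : G // orderOf g = t.1}) :
    oddSum acc + (E.map Prod.snd).sum ≤ 175560 := by
  rw [ordersOK, decide_eq_true_eq] at hok
  have h := sum_terms_le (G := G) (oddTerms acc ++ E) (by
    rw [List.map_append]
    exact hok.sublist (hE.append_left _)) (fun t ht => by
    rcases List.mem_append.1 ht with ht | ht
    · exact oddTerms_le hG hacc hnd t ht
    · exact hEle t ht)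
  rwa [List.map_append, List.sum_append, hG] at h

/-- The two cases. -/
theorem cases_of_involution {t : G} (ht : orderOf t = 2) :
    ∃ acc : List Datum, (∀ x ∈ acc, Real G x) ∧ (acc.map Prod.fst).Nodup ∧ ordersOK acc = true ∧
      ((Nat.card (centralizer ({t} : Set G)) = 120 ∧ Real G (3, 2926, 2, 10) ∧
          Real G (5, 2926, 2, 6) ∧ oddSum acc + 1463 * 45 = 175560) ∨
        (Nat.card (centralizer ({t} : Set G)) = 24 ∧ Real G (3, 7315, 2, 4) ∧
          oddSum acc + 7315 * 3 = 175560)) := by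
  obtain ⟨o, ho⟩ := eight_dvd hG ht
  have hod : o ∣ 21945 := by
    have h := card_subgroup_dvd_card (centralizer ({t} : Set G))
    rw [hG, ho, show 175560 = 8 * 21945 by norm_num] at h
    exact Nat.dvd_of_mul_dvd_mul_left (by norm_num) h
  have hs := search_ok
  rw [List.all_eq_true] at hs
  obtain ⟨acc, hacc, hnd, hfin⟩ := exists_final hG ht ho opts [] (rows hG) (by simp)
    (by decide +kernel) (hs o (divs_ok o (Nat.mem_divisors.2 ⟨hod, by norm_num⟩)))
  refine ⟨acc, hacc, hnd, ?_⟩
  have hi := card_inv hG ht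
  rw [ho] at hi
  have hi' : Nat.card {g : G // orderOf g = 2} = 21945 / o := by
    refine (Nat.div_eq_of_eq_mul_left (Nat.pos_of_dvd_of_pos hod (by norm_num)) ?_).symm
    rw [mul_left_comm] at hi
    omega
  simp only [final, Bool.or_eq_true, Bool.and_eq_true, beq_iff_eq, List.any_eq_true, Nat.blt_eq,
    List.contains_iff_mem] at hfin
  rcases hfin with (((h | h) | h) | h) | h
  · exfalso
    have hne := centralizer_singleton_ne_top (not_comm hG) (y := t) fun h1 => by
      rw [h1, orderOf_one] at ht; omega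
    exact hne (eq_top_of_card_eq _ (by rw [ho, h, hG]))
  · exfalso
    obtain ⟨⟨p, n, e, k⟩, hx, ⟨⟨hp, hk⟩, he⟩, hlt⟩ := h
    simp only at hp hk he hlt
    subst hp
    have := inverted_le hG (hacc _ hx) hk he
    rw [hi'] at this
    omega
  · exfalso
    have := sum_le hG hacc hnd h.1 [(2, 21945 / o)] (by simp) (fun x hx => by
      rw [List.mem_singleton] at hx; subst hx; exact hi'.ge)
    simp at this
    omega
  · obtain ⟨⟨⟨⟨rfl, h1⟩, h3⟩, h5⟩, hsum⟩ := h
    exact ⟨h1, Or.inl ⟨ho, hacc _ h3, hacc _ h5, hsum⟩⟩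
  · obtain ⟨⟨⟨rfl, h1⟩, h3⟩, hsum⟩ := h
    exact ⟨h1, Or.inr ⟨ho, hacc _ h3, hsum⟩⟩

end CfsgLib.J1Unique.Order
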