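import Cfsg.Agent.Lib.J1Unique.OrderSieve

/-!
# Local facts in a simple group of order 175560
-/

set_option autoImplicit false
set_option linter.unusedSectionVars false
set_option linter.style.haveILetI false

namespace CfsgLib.J1Unique.Order

open Subgroup CfsgLib.Small CfsgLib.LocalEven.J1Order

universe u

variable {G : Type u} [Group G] [Finite G] [IsSimpleGroup G] (hG : Nat.card G = 175560)

include hG

theorem not_comm : ¬ IsMulCommutative G := not_isMulCommutative_of_card (by rw [hG]; norm_num)

theorem conj_involution {a b : G} (ha : orderOf a = 2) (hb : orderOf b = 2) :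
    ∃ g : G, g * a * g⁻¹ = b :=
  isConj_iff.1 (isConj_involution (not_comm hG) (v := 3) (Or.inr rfl) (by rw [hG]; norm_num)
    (by rw [hG]; norm_num) ha hb)

/-- Conjugation identifies the centralizers. -/
theorem mem_cent_conj {a g y : G} :
    g * y * g⁻¹ ∈ centralizer ({g * a * g⁻¹} : Set G) ↔ y ∈ centralizer ({a} : Set G) := by
  rw [mem_centralizer_singleton_iff, mem_centralizer_singleton_iff,
    show g * y * g⁻¹ * (g * a * g⁻¹) = g * (y * a) * g⁻¹ by group,
    show g * a * g⁻¹ * (g * y * g⁻¹) = g * (a * y) * g⁻¹ by group, mul_left_inj, mul_right_inj]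

theorem card_cent_eq {a b : G} (ha : orderOf a = 2) (hb : orderOf b = 2) :
    Nat.card (centralizer ({b} : Set G)) = Nat.card (centralizer ({a} : Set G)) := by
  obtain ⟨g, rfl⟩ := conj_involution hG ha hb
  exact (Nat.card_congr ((MulAut.conj g).toEquiv.subtypeEquiv fun y =>
    (mem_cent_conj hG (a := a) (g := g) (y := y)).symm)).symm

/-- The numbers of elements of a given order in the centralizers of involutions agree. -/
theorem card_ord_cent_eq {a b : G} (ha : orderOf a = 2) (hb : orderOf b = 2) (p : ℕ) :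
    Nat.card {y : G // orderOf y = p ∧ Commute b y} =
      Nat.card {y : G // orderOf y = p ∧ Commute a y} := by
  obtain ⟨g, rfl⟩ := conj_involution hG ha hb
  refine (Nat.card_congr ((MulAut.conj g).toEquiv.subtypeEquiv fun y => ?_)).symm
  show orderOf y = p ∧ Commute a y ↔
    orderOf (MulAut.conj g y) = p ∧ Commute (MulAut.conj g a) (MulAut.conj g y)
  rw [MulEquiv.orderOf_eq, commute_map_iff (MulAut.conj g).injective]

/-- An element of prime order centralizing an involution makes the centralizer of its Sylow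
subgroup even. -/
theorem even_of_commute {p n e k : ℕ} (hR : Real G (p, n, e, k)) {y t : G} (hy : orderOf y = p)
    (ht : orderOf t = 2) (hc : Commute t y) : k % 2 = 0 := by
  obtain ⟨hp, hp2, -, -, -, hP⟩ := hR
  haveI := Fact.mk hp
  obtain ⟨Q, hQ⟩ := zpowers_eq_sylow hy fun Q => (hP Q).1
  have hmem : t ∈ centralizer ((Q : Subgroup G) : Set G) := by
    rw [hQ, mem_centralizer_iff]
    rintro z ⟨i, rfl⟩
    exact ((hc.zpow_right i).eq).symm
  have hd := Subgroup.orderOf_dvd_natCard _ hmem
  rw [ht, (hP Q).2.1] at hd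
  rcases Nat.prime_two.dvd_mul.1 hd with h | h
  · exact absurd ((Nat.prime_dvd_prime_iff_eq Nat.prime_two hp).1 h).symm hp2
  · exact Nat.mod_eq_zero_of_dvd h

theorem dvd_iff {p n e k : ℕ} (hR : Real G (p, n, e, k)) {t : G} (ht : orderOf t = 2) :
    p ∣ Nat.card (centralizer ({t} : Set G)) ↔ k % 2 = 0 := by
  haveI := Fact.mk hR.1
  constructor
  · intro h
    obtain ⟨y, hy⟩ := exists_prime_orderOf_dvd_card' (G := centralizer ({t} : Set G)) p h
    refine even_of_commute hG hR (y := (y : G)) (by rw [Subgroup.orderOf_coe, hy]) ht ?_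
    exact (mem_centralizer_singleton_iff.1 y.2).symm
  · intro hk
    haveI := Fact.mk Nat.prime_two
    obtain ⟨-, -, -, -, -, hP⟩ := hR
    obtain ⟨P⟩ := (inferInstance : Nonempty (Sylow p G))
    obtain ⟨u, hu⟩ := exists_prime_orderOf_dvd_card' (G := centralizer ((P : Subgroup G) : Set G)) 2
      (by rw [(hP P).2.1]; exact dvd_mul_of_dvd_right (Nat.dvd_of_mod_eq_zero hk) p)
    rw [card_cent_eq hG (a := (u : G)) (by rw [Subgroup.orderOf_coe, hu]) ht]
    exact (dvd_of_eq (hP P).1.symm).trans <| card_dvd_of_le fun z hz =>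
      mem_centralizer_singleton_iff.2 (mem_centralizer_iff.1 u.2 z hz)

theorem eight_dvd {t : G} (ht : orderOf t = 2) : 8 ∣ Nat.card (centralizer ({t} : Set G)) := by
  haveI := Fact.mk Nat.prime_two
  obtain ⟨S⟩ := (inferInstance : Nonempty (Sylow 2 G))
  have hS : Nat.card (S : Subgroup G) = 8 := by
    simpa using card_sylow_eq (p := 2) 3 21945 (by rw [hG]; norm_num) (by norm_num) S
  haveI : Nontrivial (S : Subgroup G) := Finite.one_lt_card_iff_nontrivial.1 (by omega)
  haveI := S.isPGroup'.center_nontrivial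
  obtain ⟨z, hz⟩ : ∃ z : center (S : Subgroup G), orderOf z = 2 := by
    refine exists_prime_orderOf_dvd_card' 2 ?_
    obtain ⟨j, hj⟩ := (S.isPGroup'.to_subgroup (center (S : Subgroup G))).exists_card_eq
    have h1 : 1 < Nat.card (center (S : Subgroup G)) :=
      Finite.one_lt_card_iff_nontrivial.2 inferInstance
    rcases j with _ | j
    · rw [hj] at h1; simp at h1
    · rw [hj, pow_succ]; exact dvd_mul_left _ _
  rw [card_cent_eq hG (a := ((z : (S : Subgroup G)) : G))
    (by rw [Subgroup.orderOf_coe, Subgroup.orderOf_coe, hz]) ht, ← hS]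
  exact card_dvd_of_le fun w hw => mem_centralizer_singleton_iff.2
    (congrArg Subtype.val (mem_center_iff.1 z.2 ⟨w, hw⟩))

/-- The Sylow subgroups of odd prime order in the centralizers of involutions. -/
theorem local_count {p n e k : ℕ} (hR : Real G (p, n, e, k)) (hk : k % 2 = 0) {t : G}
    (ht : orderOf t = 2) : ∃ m d : ℕ, m % p = 1 ∧ m * p * d = Nat.card (centralizer ({t} : Set G)) ∧
      d ∣ e * k ∧ evenReq e ∣ d ∧ Nat.card {y : G // orderOf y = p ∧ Commute t y} = m * (p - 1) := by
  classical
  obtain ⟨hp, hp2, -, hsq, -, hP⟩ := hR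
  haveI := Fact.mk hp
  haveI := Fact.mk Nat.prime_two
  obtain ⟨P⟩ := (inferInstance : Nonempty (Sylow p G))
  obtain ⟨hPc, hPC, hPN⟩ := hP P
  set C := centralizer ((P : Subgroup G) : Set G) with hC
  set N := normalizer ((P : Subgroup G) : Set G) with hN
  have hcop : Nat.Coprime (evenReq e) p := by
    rw [evenReq]
    have h2 : Nat.Coprime 2 p := (Nat.coprime_primes Nat.prime_two hp).2 (Ne.symm hp2)
    split_ifs
    · exact Nat.Coprime.pow_left 2 h2
    · exact h2
  -- an involution centralizing the Sylow subgroup and a suitable `2`-subgroup of its normalizer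
  obtain ⟨u, hu, huC, V, hV, hVu, hVN⟩ : ∃ u : G, orderOf u = 2 ∧ u ∈ C ∧ ∃ V : Subgroup G,
      Nat.card V = evenReq e ∧ V ≤ centralizer ({u} : Set G) ∧ V ≤ N := by
    by_cases he : e % 4 = 2
    · obtain ⟨W, hW⟩ := Sylow.exists_subgroup_card_pow_prime 2 (G := N) (n := 2) (by
        rw [hPN]
        obtain ⟨a, ha⟩ := Nat.dvd_of_mod_eq_zero hk
        obtain ⟨b, hb⟩ : 2 ∣ e := by omega
        exact ⟨p * a * b, by rw [ha, hb]; ring⟩)
      set V := W.map N.subtype with hVdef
      have hVN : V ≤ N := map_subtype_le W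
      have hV4 : Nat.card V = 4 := by
        rw [hVdef, card_map_of_injective N.subtype_injective, hW]; norm_num
      have hne : V ⊓ C ≠ ⊥ := by
        intro hbot
        haveI : (C.subgroupOf N).Normal := by
          have h := (P : Subgroup G).normalizerMonoidHom_ker
          rw [hC, hN, ← h]
          infer_instance
        have hinj : Function.Injective
            ((QuotientGroup.mk' (C.subgroupOf N)).comp (inclusion hVN)) := by
          rw [← MonoidHom.ker_eq_bot_iff, eq_bot_iff]
          intro x hx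
          rw [MonoidHom.mem_ker, MonoidHom.comp_apply, QuotientGroup.mk'_apply,
            QuotientGroup.eq_one_iff] at hx
          have : (x : G) ∈ V ⊓ C := ⟨x.2, hx⟩
          rw [hbot, mem_bot] at this
          exact Subtype.ext this
        have hd := card_dvd_of_injective _ hinj
        have hidx : Nat.card (N ⧸ C.subgroupOf N) = e := by
          have h1 := (C.subgroupOf N).card_mul_index
          rw [Nat.card_congr (subgroupOfEquivOfLe (centralizer_le_normalizer _)).toEquiv, hPC, hPN]
            at h1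
          rw [← index_eq_card]
          exact Nat.eq_of_mul_eq_mul_left (hPC ▸ Nat.card_pos) h1
        rw [hV4, hidx] at hd
        omega
      obtain ⟨⟨x, hx⟩, hx1⟩ := (nontrivial_iff_exists_ne (1 : (V ⊓ C : Subgroup G))).1
        ((nontrivial_iff_ne_bot _).2 hne)
      have hVp : IsPGroup 2 V := IsPGroup.of_card (n := 2) (by rw [hV4]; norm_num)
      haveI := hVp.to_le (inf_le_left : V ⊓ C ≤ V)
      obtain ⟨u, hu⟩ := exists_prime_orderOf_dvd_card' (G := (V ⊓ C : Subgroup G)) 2 (by
        obtain ⟨j, hj⟩ := (hVp.to_le (inf_le_left : V ⊓ C ≤ V)).exists_card_eq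
        rcases j with _ | j
        · exact absurd (eq_bot_of_card_eq _ (by rw [hj, pow_zero])) hne
        · rw [hj, pow_succ]; exact dvd_mul_left _ _)
      refine ⟨(u : G), by rw [Subgroup.orderOf_coe, hu], u.2.2, V, by rw [hV4, evenReq, if_pos he],
        fun v hv => mem_centralizer_singleton_iff.2 ?_, hVN⟩
      exact congrArg Subtype.val (IsPGroup.commutative_of_card_eq_prime_sq (p := 2) (G := V)
        (by rw [hV4]; norm_num) ⟨v, hv⟩ ⟨(u : G), u.2.1⟩)
    · obtain ⟨u, hu⟩ := exists_prime_orderOf_dvd_card' (G := C) 2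
        (by rw [hPC]; exact dvd_mul_of_dvd_right (Nat.dvd_of_mod_eq_zero hk) p)
      have huo : orderOf (u : G) = 2 := by rw [Subgroup.orderOf_coe, hu]
      refine ⟨(u : G), huo, u.2, zpowers (u : G), by rw [Nat.card_zpowers, huo, evenReq, if_neg he],
        zpowers_le.2 (mem_centralizer_singleton_iff.2 rfl), zpowers_le.2 ?_⟩
      exact centralizer_le_normalizer _ u.2
  set A := centralizer ({u} : Set G) with hA
  have hPA : (P : Subgroup G) ≤ A := fun z hz =>
    mem_centralizer_singleton_iff.2 (mem_centralizer_iff.1 huC z hz)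
  set PA := P.subtype hPA with hPAdef
  have hsqA : ¬ p ^ 2 ∣ Nat.card A := fun h => hsq (h.trans (card_subgroup_dvd_card A))
  have hpA : p ∣ Nat.card A := hPc ▸ card_dvd_of_le hPA
  have hm := card_orderOf_prime (card_sylow_of_sq hpA hsqA)
  have hcount : Nat.card {y : G // orderOf y = p ∧ Commute t y} =
      Nat.card {y : A // orderOf y = p} := by
    rw [card_ord_cent_eq hG hu ht p]
    exact Nat.card_congr
      { toFun := fun y => ⟨⟨y.1, mem_centralizer_singleton_iff.2 y.2.2.eq.symm⟩,
          (Subgroup.orderOf_mk _ _).trans y.2.1⟩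
        invFun := fun y => ⟨y.1.1, (Subgroup.orderOf_coe _).trans y.2,
          (mem_centralizer_singleton_iff.1 y.1.2).symm⟩
        left_inv := fun _ => rfl
        right_inv := fun _ => rfl }
  have hNA : Nat.card (normalizer ((PA : Subgroup A) : Set A)) = Nat.card (N ⊓ A : Subgroup G) := by
    rw [← card_map_of_injective A.subtype_injective]
    have hmap : (normalizer ((PA : Subgroup A) : Set A)).map A.subtype = N ⊓ A := by
      rw [hPAdef, Sylow.coe_subtype, ← subgroupOf_normalizer_eq hPA, subgroupOf_map_subtype]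
    rw [hmap]
  have hpd : p * evenReq e ∣ Nat.card (N ⊓ A : Subgroup G) := by
    refine Nat.Coprime.mul_dvd_of_dvd_of_dvd hcop.symm ?_ ?_
    · exact hPc ▸ card_dvd_of_le (le_inf le_normalizer hPA)
    · exact hV ▸ card_dvd_of_le (le_inf hVN hVu)
  obtain ⟨d, hd⟩ := dvd_trans (dvd_mul_right p (evenReq e)) hpd
  refine ⟨Nat.card (Sylow p A), d, Eq.trans (card_sylow_modEq_one p A)
    (Nat.mod_eq_of_lt hp.one_lt), ?_, ?_, ?_, by rw [hcount, hm]⟩
  · rw [card_cent_eq hG hu ht, mul_assoc, ← hd, PA.card_eq_index_normalizer, ← hNA, mul_comm]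
    exact (normalizer ((PA : Subgroup A) : Set A)).card_mul_index
  · have h := card_dvd_of_le (inf_le_left : N ⊓ A ≤ N)
    rw [hPN, hd, mul_assoc] at h
    rw [mul_comm e k]
    exact Nat.dvd_of_mul_dvd_mul_left hp.pos h
  · rw [hd] at hpd
    exact Nat.dvd_of_mul_dvd_mul_left hp.pos hpd

/-- The number of involutions. -/
theorem card_inv {t : G} (ht : orderOf t = 2) :
    Nat.card {g : G // orderOf g = 2} * Nat.card (centralizer ({t} : Set G)) = 175560 := by
  classical
  rw [← hG]
  have e : {g : G // orderOf g = 2} ≃ MulAction.orbit (ConjAct G) t := by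
    refine Equiv.subtypeEquivRight fun g => ?_
    rw [ConjAct.mem_orbit_conjAct]
    constructor
    · intro hg
      exact (isConj_iff.2 (conj_involution hG hg ht))
    · intro h
      obtain ⟨c, hc⟩ := isConj_iff.1 h
      rw [← ht, ← hc]
      exact ((MulAut.conj c).orderOf_eq g).symm
  have e2 : MulAction.stabilizer (ConjAct G) t ≃ centralizer ({t} : Set G) := by
    refine ConjAct.ofConjAct.toEquiv.subtypeEquiv fun g => ?_
    rw [MulAction.mem_stabilizer_iff, ConjAct.smul_def, mem_centralizer_singleton_iff,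
      mul_inv_eq_iff_eq_mul]
    rfl
  rw [Nat.card_congr e, ← Nat.card_congr e2, ← Nat.card_prod,
    Nat.card_congr (MulAction.orbitProdStabilizerEquivGroup (ConjAct G) t)]
  exact Nat.card_congr ConjAct.ofConjAct.toEquiv

end CfsgLib.J1Unique.Order
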