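import Cfsg.Agent.Lib.LocalEven.Order175560

/-!
# The possible local data of a simple group of order 175560
-/

set_option autoImplicit false
set_option maxRecDepth 100000

namespace CfsgLib.J1Unique.Order

open CfsgLib.Small CfsgLib.LocalEven.J1Order

/-- The Sylow data of the five odd primes. -/
def opts : List (ℕ × List (ℕ × ℕ × ℕ)) := [
  (19, [(210, 2, 22), (1540, 2, 3), (1540, 3, 2), (1540, 6, 1)]),
  (11, [(56, 5, 57), (133, 2, 60), (133, 5, 24), (133, 10, 12), (210, 2, 38), (1596, 2, 5),
    (1596, 5, 2), (1596, 10, 1)]),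
  (7, [(190, 2, 66), (190, 3, 44), (190, 6, 22), (330, 2, 38), (1254, 2, 10), (4180, 2, 3),
    (4180, 3, 2), (4180, 6, 1)]),
  (5, [(66, 2, 266), (66, 4, 133), (76, 2, 231), (231, 2, 76), (231, 4, 38), (266, 2, 66),
    (266, 4, 33), (836, 2, 21), (1596, 2, 11), (2926, 2, 6), (2926, 4, 3), (17556, 2, 1)]),
  (3, [(22, 2, 1330), (55, 2, 532), (70, 2, 418), (76, 2, 385), (133, 2, 220), (154, 2, 190),
    (190, 2, 154), (220, 2, 133), (385, 2, 76), (418, 2, 70), (532, 2, 55), (1045, 2, 28),
    (1330, 2, 22), (1540, 2, 19), (2926, 2, 10), (4180, 2, 7), (7315, 2, 4), (29260, 2, 1)])]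

theorem opts_3 : ∀ o ∈ primeOptions 175560 3 58520, ∃ row ∈ opts, row.1 = 3 ∧ o ∈ row.2 := by
  decide +kernel

theorem opts_5 : ∀ o ∈ primeOptions 175560 5 35112, ∃ row ∈ opts, row.1 = 5 ∧ o ∈ row.2 := by
  decide +kernel

theorem opts_7 : ∀ o ∈ primeOptions 175560 7 25080, ∃ row ∈ opts, row.1 = 7 ∧ o ∈ row.2 := by
  decide +kernel

theorem opts_11 : ∀ o ∈ primeOptions 175560 11 15960, ∃ row ∈ opts, row.1 = 11 ∧ o ∈ row.2 := by
  decide +kernel

theorem opts_19 : ∀ o ∈ primeOptions 175560 19 9240, ∃ row ∈ opts, row.1 = 19 ∧ o ∈ row.2 := by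
  decide +kernel

/-- The even part required of the local centralizer of an involution. -/
def evenReq (e : ℕ) : ℕ := if e % 4 = 2 then 4 else 2

/-- The number of Sylow `p`-subgroups of the centralizer of order `8 * o` is admissible. -/
def locOK (o : ℕ) : Datum → Bool
  | (p, _, e, k) => ((k % 2 == 0) == (o % p == 0)) && (o % p != 0 ||
      (List.range (e * k + 1)).any fun d => (e * k % d == 0) && (d % evenReq e == 0) &&
        (8 * o % (p * d) == 0) && (8 * o / (p * d) % p == 1))

/-- Lower bounds for the numbers of elements of odd orders. -/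
def oddTerms (acc : List Datum) : List (ℕ × ℕ) :=
  (1, 1) :: acc.map (fun x => (x.1, x.2.1 * (x.1 - 1))) ++ pairTerms acc

/-- The sum of the lower bounds. -/
def oddSum (acc : List Datum) : ℕ := ((oddTerms acc).map Prod.snd).sum

/-- The orders of the elements counted by the lower bounds together with some even orders. -/
def ordersOK (acc : List Datum) : Bool :=
  decide ((oddTerms acc).map Prod.fst ++ [2, 4, 6, 10]).Nodup

/-- The data are those of `J₁`, or one of two cases needing a structural argument, or impossible. -/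
def final (o : ℕ) (acc : List Datum) : Bool :=
  o == 21945 ||
  acc.any (fun x => x.1 == 19 && x.2.2.2 % 2 == 1 && x.2.2.1 % 2 == 0 &&
    Nat.blt (21945 / o * (21945 / o)) (x.2.1 * 18 * 19)) ||
  (ordersOK acc && Nat.blt 175560 (oddSum acc + 21945 / o)) ||
  (o == 15 && ordersOK acc && acc.contains (3, 2926, 2, 10) && acc.contains (5, 2926, 2, 6) &&
    oddSum acc + 1463 * 45 == 175560) ||
  (o == 3 && ordersOK acc && acc.contains (3, 7315, 2, 4) && oddSum acc + 7315 * 3 == 175560)

/-- Every choice of data is final. -/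
def search (o : ℕ) : List (ℕ × List (ℕ × ℕ × ℕ)) → List Datum → Bool
  | [], acc => final o acc
  | (p, os) :: rest, acc => os.all fun x =>
      !(locOK o (p, x) && acc.all fun y => pairOK (p, x) y) || search o rest ((p, x) :: acc)

/-- The divisors of `21945`. -/
def divs : List ℕ := [1, 3, 5, 7, 11, 15, 19, 21, 33, 35, 55, 57, 77, 95, 105, 133, 165, 209,
  231, 285, 385, 399, 627, 665, 1045, 1155, 1463, 1995, 3135, 4389, 7315, 21945]

theorem search_ok : divs.all (fun o => search o opts []) = true := by decide +kernel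

theorem divs_ok : ∀ d ∈ Nat.divisors 21945, d ∈ divs := by decide +kernel

end CfsgLib.J1Unique.Order
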