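import Cfsg.Agent.Lib.J1Unique.Odd
import Cfsg.Agent.Lib.J1Unique.Action
import Cfsg.Agent.Lib.J1Unique.Pres
import Cfsg.Agent.Lib.J1Unique.BadACert
import Cfsg.Agent.Lib.J1Unique.BadBCert
import Cfsg.Agent.Lib.J1Unique.BadCCert
import Cfsg.Agent.Lib.J1Unique.GoodCert

/-!
# The relators hold in a group with the given centralizer of an involution
-/

set_option autoImplicit false
set_option linter.unusedSectionVars false
set_option maxRecDepth 100000
set_option synthInstance.maxSize 512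
set_option synthInstance.maxHeartbeats 4000000

namespace CfsgLib.J1Unique

open CfsgLib.JanOrder CfsgLib.PresCert

universe u

/-- The letters lying in the centralizer. -/
def Lts : List ℕ := [0, 1, 2, 5, 6, 8, 9]

/-- The letters in the model. -/
def Mf (x : ℕ) : Mdl := [s1M, s2M, s3M, 1, 1, τM, qM, 1, rhoM, rhoM * rhoM].getD x 1

/-- Words for the Sylow subgroup. -/
def wS (i : Fin 8) : List ℕ := ![[], [1, 5], [6], [1, 5, 6], [5], [1], [5, 6], [1, 6]] i

theorem wS_ok : ∀ i, (∀ x ∈ wS i, x ∈ Lts) ∧ (∀ x ∈ (wS i).reverse, x ∈ Lts) ∧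
    wv Mf (wS i) = SM i ∧ wv Mf (wS i).reverse = SM i := by decide +kernel

variable {G : Type u} [Group G] [Finite G] {t : G} (D : Cen t)

/-- The letters in the group. -/
def lX (v z : G) (x : ℕ) : G :=
  [D.val s1M, D.val s2M, D.val s3M, v, v⁻¹, t, D.val qM, z, D.val rhoM,
    D.val (rhoM * rhoM)].getD x 1

theorem lX_mem (v z : G) {x : ℕ} (hx : x ∈ Lts) : lX D v z x = D.val (Mf x) := by
  simp only [Lts, List.mem_cons, List.not_mem_nil, or_false] at hx
  rcases hx with rfl | rfl | rfl | rfl | rfl | rfl | rfl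
  all_goals first | rfl | exact D.val_tau.symm

theorem lX_three (v z : G) : lX D v z 3 = v := rfl

theorem lX_four (v z : G) : lX D v z 4 = v⁻¹ := rfl

theorem lX_seven (v z : G) : lX D v z 7 = z := rfl

theorem wv_val (v z : G) {w : List ℕ} (hw : ∀ x ∈ w, x ∈ Lts) :
    wv (lX D v z) w = D.val (wv Mf w) := by
  induction w with
  | nil => rw [wv_nil, wv_nil, D.val_one]
  | cons x w ih =>
    rw [wv_cons, wv_cons, D.val_mul, lX_mem D v z (hw x List.mem_cons_self),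
      ih fun y hy => hw y (List.mem_cons_of_mem _ hy)]

/-- The centralizer of the involution, embedded. -/
def valHom : Mdl →* G := MonoidHom.mk' D.val D.val_mul

/-- The conjugate of the centralizer of the involution. -/
def cjV (u : G) : Mdl →* G := (MulAut.conj u).toMonoidHom.comp (valHom D)

theorem cjV_apply (u : G) (m : Mdl) : cjV D u m = u * D.val m * u⁻¹ := rfl

variable {D} {δ : Bool} {v : G}

theorem Act.iter (hA : Act D δ v) : ∀ (k : ℕ) (i : Fin 8),
    v ^ k * sEl D i * (v ^ k)⁻¹ = sEl D ((M0 δ)^[k] i) := by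
  intro k
  induction k with
  | zero => intro i; simp
  | succ k ih =>
    intro i
    rw [Function.iterate_succ', Function.comp_apply, ← hA.conj, ← ih]
    group

theorem Act.cj_four (hA : Act D δ v) : cjV D (v ^ 3) τM = sEl D (tauI δ) := by
  rw [cjV_apply, ← sM_four.1]
  show v ^ 3 * sEl D 4 * (v ^ 3)⁻¹ = _
  rw [hA.iter]
  exact congrArg (sEl D) (M0_facts δ).1

theorem Act.cj_tp (hA : Act D δ v) : cjV D (v ^ 3) (SM (tpI δ)) = t := by
  rw [cjV_apply]
  show v ^ 3 * sEl D (tpI δ) * (v ^ 3)⁻¹ = _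
  rw [hA.iter]
  exact (congrArg (sEl D) (M0_facts δ).2).trans (sEl_four D)

theorem Act.r_rel (hA : Act D δ v) (z : G) {a b : List ℕ} (ha : ∀ x ∈ a, x ∈ Lts)
    (hb : ∀ x ∈ b, x ∈ Lts) (ha' : wv Mf a = rM) (hb' : wv Mf b = rM⁻¹) :
    wv (lX D v z) (a ++ [3] ++ b ++ [4, 4]) = 1 ∧
    wv (lX D v z) (b ++ [3] ++ a ++ [4, 4, 4, 4]) = 1 := by
  simp only [wv_append, wv_val D v z ha, wv_val D v z hb, ha', hb', D.val_inv, wv_cons, wv_nil,
    lX_three, lX_four, mul_one]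
  refine ⟨by rw [hA.rel]; group, ?_⟩
  have h4 : (D.val rM)⁻¹ * v * D.val rM = v ^ 4 := by
    have h1 : v = ((D.val rM)⁻¹ * v * D.val rM) ^ 2 := by
      calc v = (D.val rM)⁻¹ * (D.val rM * v * (D.val rM)⁻¹) * D.val rM := by group
        _ = ((D.val rM)⁻¹ * v * D.val rM) ^ 2 := by rw [hA.rel, pow_two, pow_two]; group
    have h7 : ((D.val rM)⁻¹ * v * D.val rM) ^ 7 = 1 := by
      have h := conj_pow (a := (D.val rM)⁻¹) (b := v) (i := 7)
      rw [inv_inv, hA.pow] at h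
      rw [h]; group
    conv_rhs => rw [h1, ← pow_mul]
    rw [pow_eq_pow_mod _ h7]
    exact (pow_one _).symm
  rw [h4]; group

theorem Act.conj_rel (hA : Act D δ v) (z : G) (k : ℕ) {a b : List ℕ} {i : Fin 8}
    (ha : ∀ x ∈ a, x ∈ Lts) (hb : ∀ x ∈ b, x ∈ Lts) (ha' : wv Mf a = SM i)
    (hb' : wv Mf b = SM ((M0 δ)^[k] i)) :
    wv (lX D v z) (List.replicate k 3 ++ a ++ List.replicate k 4 ++ b) = 1 := by
  simp only [wv_append, wv_val D v z ha, wv_val D v z hb, ha', hb', wv_replicate, lX_three,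
    lX_four, inv_pow]
  show v ^ k * sEl D i * (v ^ k)⁻¹ * sEl D ((M0 δ)^[k] i) = 1
  rw [hA.iter, sEl_sq]

theorem d_rel (z : G) {p p' c : List ℕ} (hp : ∀ x ∈ p, x ∈ Lts) (hp' : ∀ x ∈ p', x ∈ Lts)
    (hc : ∀ x ∈ c, x ∈ Lts) (h : wv Mf p = rhoM) (h' : wv Mf p' = rhoM⁻¹)
    (hc2 : wv Mf c * wv Mf c = 1)
    (hcomm : Commute (cjV D (v ^ 3) (wv Mf c)) (D.val rhoM)) :
    wv (lX D v z) (p ++ [3, 3, 3] ++ c ++ [4, 4, 4] ++ p' ++ [3, 3, 3] ++ c ++ [4, 4, 4]) = 1 := by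
  simp only [wv_append, wv_val D v z hp, wv_val D v z hp', wv_val D v z hc, h, h', D.val_inv,
    wv_cons, wv_nil, lX_three, lX_four, mul_one]
  have h2 : cjV D (v ^ 3) (wv Mf c) * cjV D (v ^ 3) (wv Mf c) = 1 := by
    rw [← map_mul, hc2, map_one]
  generalize hw : cjV D (v ^ 3) (wv Mf c) = w at hcomm h2
  have e : w = v * (v * v) * D.val (wv Mf c) * (v⁻¹ * (v⁻¹ * v⁻¹)) := by
    rw [← hw, cjV_apply, pow_succ, pow_two]; group
  calc _ = D.val rhoM * w * (D.val rhoM)⁻¹ * w := by rw [e]; group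
    _ = 1 := by rw [← hcomm.eq, mul_inv_cancel_right, h2]

/-- The first six relators. -/
def coxR : List (List ℕ) :=
  [[0, 2, 0, 2], [1, 2, 1, 2, 1, 2], [0, 1, 0, 1, 0, 1, 0, 1, 0, 1], [0, 0], [1, 1], [2, 2]]

theorem coxR_ok : ∀ w ∈ coxR, (∀ x ∈ w, x ∈ Lts) ∧ wv Mf w = 1 := by decide +kernel

/-- The relators of a collapsing case. -/
def badList (A : List (List ℕ × List ℕ × Fin 8)) (a b p p' c : List ℕ) : List (List ℕ) :=
  coxR ++ [[3, 4], [3, 3, 3, 3, 3, 3, 3]] ++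
    (A.map fun q => List.replicate 1 3 ++ q.1 ++ List.replicate 1 4 ++ q.2.1) ++
    [a ++ [3] ++ b ++ [4, 4],
     p ++ [3, 3, 3] ++ c ++ [4, 4, 4] ++ p' ++ [3, 3, 3] ++ c ++ [4, 4, 4]]

/-- The data of a collapsing case are correct. -/
def BadOk (δ : Bool) (g : Bool) (A : List (List ℕ × List ℕ × Fin 8)) (a b p p' c : List ℕ) :
    Bool :=
  (a ++ b ++ p ++ p' ++ c).all (fun x => decide (x ∈ Lts)) &&
  decide (wv Mf a = rM ∧ wv Mf b = rM⁻¹ ∧ wv Mf p = rhoM ∧ wv Mf p' = rhoM⁻¹ ∧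
    wv Mf c = cM δ g ∧ wv Mf c * wv Mf c = 1) &&
  A.all fun q => (q.1 ++ q.2.1).all (fun x => decide (x ∈ Lts)) &&
    decide (wv Mf q.1 = SM q.2.2 ∧ wv Mf q.2.1 = SM (M0 δ q.2.2))

theorem Act.bad_rels (hA : Act D δ v) {g : Bool}
    (hc : Commute (cjV D (v ^ 3) (cM δ g)) (D.val rhoM)) (z : G)
    {A : List (List ℕ × List ℕ × Fin 8)} {a b p p' c : List ℕ}
    (hok : BadOk δ g A a b p p' c = true) :
    ∀ w ∈ badList A a b p p' c, wv (lX D v z) w = 1 := by
  simp only [BadOk, Bool.and_eq_true, List.all_eq_true, decide_eq_true_eq] at hok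
  obtain ⟨⟨hl, h1, h2, h3, h4, h5, h6⟩, hq⟩ := hok
  simp only [List.mem_append] at hl
  intro w hw
  simp only [badList, List.mem_append, List.mem_map, List.mem_cons, List.not_mem_nil,
    or_false] at hw
  rcases hw with ((hw | rfl | rfl) | ⟨q, hqA, rfl⟩) | rfl | rfl
  · rw [wv_val D v z (coxR_ok w hw).1, (coxR_ok w hw).2, D.val_one]
  · simp [wv_cons, wv_nil, lX_three, lX_four]
  · show wv (lX D v z) (List.replicate 7 3) = 1
    rw [wv_replicate, lX_three, hA.pow]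
  · obtain ⟨hlq, e1, e2⟩ := hq q hqA
    simp only [List.mem_append] at hlq
    exact hA.conj_rel z 1 (fun x hx => hlq x (Or.inl hx)) (fun x hx => hlq x (Or.inr hx)) e1 e2
  · exact (hA.r_rel z (fun x hx => hl x (by tauto)) (fun x hx => hl x (by tauto)) h1 h2).1
  · exact d_rel z (fun x hx => hl x (by tauto)) (fun x hx => hl x (by tauto))
      (fun x hx => hl x (by tauto)) h3 h4 h6 (h5 ▸ hc)

theorem Act.collapse (hA : Act D δ v) (C : Cert) {js : List Cert.Just} (V : Cert.Valid C js)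
    (hn : C.n = 1) (hs : C.subs = [[0], [1], [2]]) (hg : 3 < C.g)
    (hlt : ∀ w ∈ C.rels, ∀ x ∈ w, x < C.g)
    (hinv : ∀ x < C.g, C.iv x < C.g ∧ ([x, C.iv x] ∈ C.rels ∨ [C.iv x, x] ∈ C.rels))
    (hX : ∀ w ∈ C.rels, wv (lX D v 1) w = 1) : False := by
  let S : Subgroup (PG C.g C.rels) := Subgroup.closure
    {pg C.g C.rels 0, pg C.g C.rels 1, pg C.g C.rels 2}
  have hsub : ∀ r ∈ C.subs, wv (pg C.g C.rels) r ∈ S := by
    intro r hr
    simp only [hs, List.mem_cons, List.not_mem_nil, or_false] at hr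
    rcases hr with rfl | rfl | rfl <;> simp only [wv_cons, wv_nil, mul_one] <;>
      exact Subgroup.subset_closure (by simp)
  have htop : S = ⊤ := by
    obtain ⟨h1, h2⟩ := Cert.index_le (presModel C hlt hinv S hsub) V
    rw [hn] at h1
    exact Subgroup.index_eq_one.1 (le_antisymm h1 (Nat.pos_of_ne_zero h2.index_ne_zero))
  set φ := toG C.g C.rels (lX D v 1) hlt hX with hφ
  have hle : S ≤ (Subgroup.centralizer ({t} : Set G)).comap φ := by
    rw [Subgroup.closure_le]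
    intro q hq
    simp only [Set.mem_insert_iff, Set.mem_singleton_iff] at hq
    rcases hq with rfl | rfl | rfl <;>
      · rw [SetLike.mem_coe, Subgroup.mem_comap, hφ, toG_pg _ _ _ (by omega)]
        exact D.val_mem _
  have h := hle (htop ▸ Subgroup.mem_top (pg C.g C.rels 3))
  rw [Subgroup.mem_comap, hφ, toG_pg _ _ _ hg, lX_three, Subgroup.mem_centralizer_singleton_iff]
    at h
  obtain ⟨m, rfl⟩ := D.val_surj h
  have h30 : D.val m ^ 30 = 1 := by rw [← D.val_pow, pow_thirty, D.val_one]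
  have h7 := hA.pow
  refine hA.ne ?_
  have hg1 := pow_gcd_eq_one.2 ⟨h30, h7⟩
  simpa using hg1

theorem Act.no_bad (hA : Act D δ v) {g : Bool}
    (hc : Commute (cjV D (v ^ 3) (cM δ g)) (D.val rhoM)) : δ = false ∧ g = true := by
  cases δ <;> cases g
  · exfalso
    refine hA.collapse BadA.cert BadA.valid rfl rfl (by decide +kernel) (by decide +kernel)
      (by decide +kernel) ?_
    have e : BadA.cert.rels = badList
      [([0, 1, 0, 1, 0, 2, 1, 0, 1, 0, 2, 1, 0, 1, 2], [2, 1, 0, 1, 2], 4),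
       ([0, 1, 0, 1, 2, 1, 0, 1, 0, 2, 1, 0, 1, 2], [0, 1, 0, 1, 2, 1, 0, 1, 0], 1),
       ([0, 1, 0, 1, 0, 2, 1, 0, 1, 0], [2, 1, 0, 1, 2, 1], 2)]
      [1, 0, 2, 1, 0, 1, 0, 2, 1, 0] [0, 1, 2, 0, 1, 0, 1, 2, 0, 1]
      [0, 2, 1, 0, 1, 0, 2, 1] [1, 2, 0, 1, 0, 1, 2, 0] [1, 0, 2, 1, 0, 1, 0, 2, 1] := rfl
    rw [e]
    exact hA.bad_rels hc 1 (by decide +kernel)
  · exact ⟨rfl, rfl⟩
  · exfalso
    refine hA.collapse BadB.cert BadB.valid rfl rfl (by decide +kernel) (by decide +kernel)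
      (by decide +kernel) ?_
    have e : BadB.cert.rels = badList
      [([0, 1, 0, 1, 0, 2, 1, 0, 1, 0, 2, 1, 0, 1, 2],
        [2, 1, 0, 1, 2, 0, 1, 0, 1, 2, 1, 0, 1, 0], 4),
       ([0, 1, 0, 1, 2, 1, 0, 1, 0, 2, 1, 0, 1, 2], [2, 1, 0, 1, 2, 1], 1),
       ([0, 1, 0, 1, 0, 2, 1, 0, 1, 0], [2, 1, 0, 1, 2], 2)]
      [1, 0, 2, 1, 0, 1, 0, 2, 1, 0] [0, 1, 2, 0, 1, 0, 1, 2, 0, 1]
      [0, 2, 1, 0, 1, 0, 2, 1] [1, 2, 0, 1, 0, 1, 2, 0] [1, 0, 1, 0, 2, 1, 0, 1] := rfl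
    rw [e]
    exact hA.bad_rels hc 1 (by decide +kernel)
  · exfalso
    refine hA.collapse BadC.cert BadC.valid rfl rfl (by decide +kernel) (by decide +kernel)
      (by decide +kernel) ?_
    have e : BadC.cert.rels = badList
      [([0, 1, 0, 1, 0, 2, 1, 0, 1, 0, 2, 1, 0, 1, 2],
        [2, 1, 0, 1, 2, 0, 1, 0, 1, 2, 1, 0, 1, 0], 4),
       ([0, 1, 0, 1, 2, 1, 0, 1, 0, 2, 1, 0, 1, 2], [2, 1, 0, 1, 2, 1], 1),
       ([0, 1, 0, 1, 0, 2, 1, 0, 1, 0], [2, 1, 0, 1, 2], 2)]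
      [1, 0, 2, 1, 0, 1, 0, 2, 1, 0] [0, 1, 2, 0, 1, 0, 1, 2, 0, 1]
      [0, 2, 1, 0, 1, 0, 2, 1] [1, 2, 0, 1, 0, 1, 2, 0] [0, 1, 0, 2, 1, 0] := rfl
    rw [e]
    exact hA.bad_rels hc 1 (by decide +kernel)

/-- The words for the four conjugate involutions. -/
def cW : List (List ℕ) := [[2], [1, 9], [2, 8, 6], [0, 8, 6, 8]]

theorem cW_ok : ∀ c ∈ cW, (∀ x ∈ c, x ∈ Lts) ∧ wv Mf c * wv Mf c = 1 ∧
    ∃ j : Fin 5, wv Mf c = SM (tpI false) * (SM (tpI false) * cM false true) ^ (j : ℕ) := by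
  decide +kernel

theorem cj_cand {g : Bool} (hA : Act D δ v) {m : Mdl} (j : ℕ)
    (hm : Commute (cjV D (v ^ 3) m) (D.val rhoM))
    (h : cM δ g = SM (tpI δ) * (SM (tpI δ) * m) ^ j) :
    Commute (cjV D (v ^ 3) (cM δ g)) (D.val rhoM) := by
  have ht : Commute t (D.val rhoM) := (D.commute_val rhoM).symm
  rw [h, map_mul, map_pow, map_mul, hA.cj_tp]
  exact ht.mul_left ((ht.mul_left hm).pow_left j)

/-- The relators of the surviving case. -/
theorem Act.good_rels (hA : Act D false v)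
    (hc : Commute (cjV D (v ^ 3) s3M) (D.val rhoM)) :
    ∀ w ∈ Good.cert.rels, wv (lX D v (cjV D (v ^ 3) s3M)) w = 1 := by
  obtain ⟨z, hz⟩ : ∃ z, z = cjV D (v ^ 3) s3M := ⟨_, rfl⟩
  rw [← hz]
  have e : Good.cert.rels = Good.cert.rels.take 31 ++
      [[3, 4], [4, 3], [3, 3, 3, 3, 3, 3, 3]] ++
      (List.flatMap (fun k : Fin 3 => (List.finRange 7).map fun i : Fin 7 =>
        List.replicate ((k : ℕ) + 1) 3 ++ wS i.succ ++ List.replicate ((k : ℕ) + 1) 4 ++
          (wS ((M0 false)^[(k : ℕ) + 1] i.succ)).reverse) (List.finRange 3)) ++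
      [[1, 8, 0] ++ [3] ++ [0, 9, 1] ++ [4, 4], [0, 9, 1] ++ [3] ++ [1, 8, 0] ++ [4, 4, 4, 4]] ++
      [[7, 7], [7, 3, 3, 3, 2, 4, 4, 4], [8, 7, 9, 7], [5, 7, 5, 7, 5, 7, 5, 7, 5, 7],
        [7, 1, 5, 7, 5, 1]] ++
      cW.map fun c => [8] ++ [3, 3, 3] ++ c ++ [4, 4, 4] ++ [9] ++ [3, 3, 3] ++ c ++ [4, 4, 4] := by
    decide +kernel
  have hC : ∀ w ∈ Good.cert.rels.take 31, (∀ x ∈ w, x ∈ Lts) ∧ wv Mf w = 1 := by decide +kernel
  have hzz : z * z = 1 := by
    rw [hz, ← map_mul, show s3M * s3M = 1 by decide +kernel, map_one]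
  have h9 : D.val (rhoM * rhoM) = (D.val rhoM)⁻¹ := by
    rw [show rhoM * rhoM = rhoM⁻¹ by decide +kernel, D.val_inv]
  have h15 : wv (lX D v z) [1, 5] = cjV D (v ^ 3) τM := by
    rw [hA.cj_four, wv_val D v z (by decide +kernel)]
    exact congrArg D.val (show wv Mf [1, 5] = SM (tauI false) by decide +kernel)
  have h51 : wv (lX D v z) [5, 1] = cjV D (v ^ 3) τM := by
    rw [hA.cj_four, wv_val D v z (by decide +kernel)]
    exact congrArg D.val (show wv Mf [5, 1] = SM (tauI false) by decide +kernel)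
  have hzc : Commute z (D.val rhoM) := by rw [hz]; exact hc
  intro w hw
  rw [e] at hw
  simp only [List.mem_append, List.mem_flatMap, List.mem_map, List.mem_cons, List.not_mem_nil,
    or_false] at hw
  rcases hw with ((((hw | rfl | rfl | rfl) | ⟨k, -, i, -, rfl⟩) | rfl | rfl) |
    rfl | rfl | rfl | rfl | rfl) | ⟨c, hc', rfl⟩
  · rw [wv_val D v z (hC w hw).1, (hC w hw).2, D.val_one]
  · simp [wv_cons, wv_nil, lX_three, lX_four]
  · simp [wv_cons, wv_nil, lX_three, lX_four]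
  · show wv (lX D v z) (List.replicate 7 3) = 1
    rw [wv_replicate, lX_three, hA.pow]
  · exact hA.conj_rel z _ (wS_ok _).1 (wS_ok _).2.1 (wS_ok _).2.2.1 (wS_ok _).2.2.2
  · exact (hA.r_rel z (a := [1, 8, 0]) (b := [0, 9, 1]) (by decide +kernel) (by decide +kernel)
      (by decide +kernel) (by decide +kernel)).1
  · exact (hA.r_rel z (a := [1, 8, 0]) (b := [0, 9, 1]) (by decide +kernel) (by decide +kernel)
      (by decide +kernel) (by decide +kernel)).2
  · simp [wv_cons, wv_nil, lX_seven, hzz]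
  · have e2 : wv (lX D v z) [7, 3, 3, 3, 2, 4, 4, 4] = z * cjV D (v ^ 3) s3M := by
      simp only [wv_cons, wv_nil, lX_seven, lX_three, lX_four, mul_one, cjV_apply]
      rw [show lX D v z 2 = D.val s3M from rfl, pow_succ, pow_two]
      group
    rw [e2, ← hz, hzz]
  · simp only [wv_cons, wv_nil, lX_seven, mul_one]
    rw [show lX D v z 8 = D.val rhoM from rfl, show lX D v z 9 = D.val (rhoM * rhoM) from rfl, h9,
      ← mul_assoc, ← mul_assoc, ← hzc.eq, mul_inv_cancel_right, hzz]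
  · have e2 : wv (lX D v z) [5, 7, 5, 7, 5, 7, 5, 7, 5, 7] = (t * z) ^ 5 := by
      simp only [wv_cons, wv_nil, lX_seven, mul_one, show lX D v z 5 = t from rfl, pow_succ,
        pow_zero, one_mul, mul_assoc]
    rw [e2, ← hA.cj_tp, hz, ← map_mul, ← map_pow,
      show (SM (tpI false) * s3M) ^ 5 = 1 by decide +kernel, map_one]
  · rw [show ([7, 1, 5, 7, 5, 1] : List ℕ) = [7] ++ [1, 5] ++ [7] ++ [5, 1] from rfl]
    simp only [wv_append, h15, h51]
    rw [wv_cons, wv_nil, lX_seven, mul_one, hz, ← map_mul, ← map_mul, ← map_mul,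
      show s3M * τM * s3M * τM = 1 by decide +kernel, map_one]
  · obtain ⟨h1, h2, j, hj⟩ := cW_ok c hc'
    refine d_rel z (p := [8]) (p' := [9]) (by decide +kernel) (by decide +kernel) h1
      (by decide +kernel) (by decide +kernel) h2 ?_
    have ht : Commute t (D.val rhoM) := (D.commute_val rhoM).symm
    rw [hj, map_mul, map_pow, map_mul, hA.cj_tp]
    exact ht.mul_left ((ht.mul_left hc).pow_left _)

variable [IsSimpleGroup G]

theorem factor_three : (175560 : ℕ).factorization 3 = 1 := by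
  haveI : Fact (Nat.Prime 3) := ⟨by norm_num⟩
  rw [Nat.factorization_def _ Fact.out]
  norm_num [padicValNat_def']
  exact multiplicity_eq_of_dvd_of_not_dvd (by norm_num) (by norm_num)

/-- An element of order three commuting with `rhoM` lies in the centralizer. -/
theorem three_cent (hG : Nat.card G = 175560) (D : Cen t) {a : G} (ha : a ^ 3 = 1)
    (hc : a * D.val rhoM = D.val rhoM * a) : a * t = t * a := by
  haveI : Fact (Nat.Prime 3) := ⟨by norm_num⟩
  have hρ : orderOf (D.val rhoM) = 3 := orderOf_eq_prime (rho_val D).1 (rho_val D).2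
  let P : Sylow 3 G := Sylow.ofCard (Subgroup.zpowers (D.val rhoM)) (by
    rw [Nat.card_zpowers, hρ, hG, factor_three, pow_one])
  have hPs : (P : Subgroup G) = Subgroup.zpowers (D.val rhoM) := rfl
  have hp : IsPGroup 3 (Subgroup.zpowers a) := by
    intro x
    refine ⟨1, ?_⟩
    obtain ⟨n, hn⟩ := Subgroup.mem_zpowers_iff.1 x.2
    apply Subtype.ext
    rw [Subgroup.coe_pow, ← hn, pow_one, ← zpow_natCast, ← zpow_mul, mul_comm, zpow_mul,
      zpow_natCast, ha, one_zpow, Subgroup.coe_one]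
  have han : a ∈ Subgroup.normalizer (P : Set G) := by
    suffices h : a ∈ Subgroup.centralizer (P : Set G) from
      Subgroup.centralizer_le_normalizer (s := (P : Set G)) h
    rw [Subgroup.mem_centralizer_iff]
    intro h hh
    obtain ⟨n, rfl⟩ := Subgroup.mem_zpowers_iff.1 (show h ∈ Subgroup.zpowers (D.val rhoM) from hh)
    exact ((show Commute a (D.val rhoM) from hc).zpow_right n).symm
  have hin : a ∈ Subgroup.zpowers a ⊓ Subgroup.normalizer (P : Set G) :=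
    ⟨Subgroup.mem_zpowers a, han⟩
  rw [hp.inf_normalizer_sylow P] at hin
  obtain ⟨n, hn⟩ := Subgroup.mem_zpowers_iff.1 (show a ∈ Subgroup.zpowers (D.val rhoM) from hin.2)
  rw [← hn]
  exact ((show Commute (D.val rhoM) t from D.commute_val rhoM).zpow_left n).eq

include D in
/-- The surviving case occurs. -/
theorem exists_good (hG : Nat.card G = 175560) : ∃ D' : Cen t, ∃ v : G,
    Act D' false v ∧ Commute (cjV D' (v ^ 3) s3M) (D'.val rhoM) := by
  obtain ⟨D', hD⟩ := exists_act D hG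
  obtain ⟨δ, a, ha1, hodd, hρ, hti, hfix⟩ := exists_odd D' hG
  obtain ⟨v, hA⟩ := hD δ
  have htt := D'.tt
  have hz : a * t * (a * t) = 1 := by
    rw [mul_assoc a t, ← mul_assoc t a t, hti, mul_inv_cancel]
  have hτt : Commute (sEl D' (tauI δ)) t := by
    show sEl D' (tauI δ) * t = t * sEl D' (tauI δ)
    calc sEl D' (tauI δ) * t = sEl D' (tauI δ) * sEl D' 4 := by rw [sEl_four]
      _ = sEl D' 4 * sEl D' (tauI δ) := by rw [sEl_mul, sEl_mul, xr_comm]
      _ = t * sEl D' (tauI δ) := by rw [sEl_four]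
  have hτa : Commute (sEl D' (tauI δ)) a := by
    show _ = _
    conv_rhs => rw [← hfix]
    rw [mul_assoc _ (sEl D' (tauI δ)) (sEl D' (tauI δ)), sEl_sq, mul_one]
  have hτz : Commute (sEl D' (tauI δ)) (a * t) := hτa.mul_right hτt
  obtain ⟨m, hm⟩ := D'.val_surj (g := (v ^ 3)⁻¹ * (a * t) * v ^ 3) (by
    generalize hX : a * t = x at hτz
    have e : sEl D' (tauI δ) = v ^ 3 * t * (v ^ 3)⁻¹ := by
      rw [← hA.cj_four, cjV_apply, D'.val_tau]
    rw [e] at hτz
    generalize v ^ 3 = w at hτz ⊢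
    calc w⁻¹ * x * w * t = w⁻¹ * (x * (w * t * w⁻¹)) * w := by group
      _ = w⁻¹ * ((w * t * w⁻¹) * x) * w := by rw [hτz.eq]
      _ = t * (w⁻¹ * x * w) := by group)
  have hcj : cjV D' (v ^ 3) m = a * t := by rw [cjV_apply, hm]; group
  have hcp : cjV D' (v ^ 3) (m * SM (tpI δ)) = a := by
    rw [map_mul, hA.cj_tp, hcj, mul_assoc, htt, mul_one]
  have hinj : Function.Injective (cjV D' (v ^ 3)) := fun p q h => D'.val_inj
    ((MulAut.conj (v ^ 3)).injective h)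
  have hm2 : m * m = 1 := hinj (by rw [map_mul, hcj, hz, map_one])
  have hm15 : (m * SM (tpI δ)) ^ 15 = 1 := by
    refine pow_fifteen_of_odd D' ?_
    have : orderOf (cjV D' (v ^ 3) (m * SM (tpI δ))) = orderOf (D'.val (m * SM (tpI δ))) :=
      (MulAut.conj (v ^ 3)).orderOf_eq _
    rw [← this, hcp]
    exact hodd
  have hm3 : (m * SM (tpI δ)) ^ 3 ≠ 1 := by
    intro h
    have h3 : a ^ 3 = 1 := by rw [← hcp, ← map_pow, h, map_one]
    have hcm := three_cent hG D' h3 hρ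
    rw [← hcm, mul_assoc, htt, mul_one] at hti
    have h2 : a ^ 2 = 1 := by rw [pow_two]; exact mul_eq_one_iff_eq_inv.2 hti
    exact ha1 (by
      calc a = a ^ 3 * (a ^ 2)⁻¹ := by group
        _ = 1 := by rw [h3, h2, inv_one, mul_one])
  obtain ⟨g, i, hgi⟩ := cand δ m hm2 hm15 hm3
  have htρ : Commute t (D'.val rhoM) := (D'.commute_val rhoM).symm
  have hzc : Commute (cjV D' (v ^ 3) m) (D'.val rhoM) :=
    hcj ▸ (show Commute a (D'.val rhoM) from hρ).mul_left htρ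
  have hc := cj_cand hA (i : ℕ) hzc hgi
  obtain ⟨rfl, rfl⟩ := hA.no_bad hc
  exact ⟨D', v, hA, hc⟩

end CfsgLib.J1Unique
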