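import Cfsg.Agent.Lib.JanOrder.Model

/-!
# The model of the centralizer in the normal form used by the coset certificates
-/

set_option autoImplicit false
set_option maxRecDepth 100000
set_option synthInstance.maxSize 512
set_option synthInstance.maxHeartbeats 4000000

namespace CfsgLib.J1Unique

open CfsgLib.JanOrder (Mdl τM)

open Equiv (swap)

/-- The first reflection. -/
def s1M : Mdl := (Multiplicative.ofAdd 1,
  ⟨swap 1 2 * swap 3 4, by rw [Equiv.Perm.mem_alternatingGroup]; decide +kernel⟩)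

/-- The second reflection. -/
def s2M : Mdl := (Multiplicative.ofAdd 1,
  ⟨swap 0 1 * swap 2 3, by rw [Equiv.Perm.mem_alternatingGroup]; decide +kernel⟩)

/-- The third reflection. -/
def s3M : Mdl := (Multiplicative.ofAdd 1,
  ⟨swap 1 4 * swap 2 3, by rw [Equiv.Perm.mem_alternatingGroup]; decide +kernel⟩)

/-- The first involution of the four group. -/
def yM : Mdl := (1, ⟨swap 0 1 * swap 2 3, by rw [Equiv.Perm.mem_alternatingGroup]; decide +kernel⟩)

/-- The second involution of the four group. -/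
def qM : Mdl := (1, ⟨swap 0 2 * swap 1 3, by rw [Equiv.Perm.mem_alternatingGroup]; decide +kernel⟩)

/-- The element of order three inverted by `yM`. -/
def rhoM : Mdl := (1, ⟨swap 2 3 * swap 3 4, by rw [Equiv.Perm.mem_alternatingGroup]; decide +kernel⟩)

/-- The element of order three normalizing the four group. -/
def rM : Mdl := (1, ⟨swap 0 1 * swap 1 2, by rw [Equiv.Perm.mem_alternatingGroup]; decide +kernel⟩)

/-- The automorphism given by a transposition. -/
def sgM : Mdl ≃* Mdl :=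
  MulEquiv.prodCongr (MulEquiv.refl _)
    (MulAut.conjNormal (H := alternatingGroup (Fin 5)) (swap 0 1 : Equiv.Perm (Fin 5)))

/-- The Sylow subgroup. -/
def SM (i : Fin 8) : Mdl := ![1, yM, qM, yM * qM, τM, τM * yM, τM * qM, τM * (yM * qM)] i

/-- Addition of indices. -/
def xr (i j : Fin 8) : Fin 8 := ⟨((i : ℕ) ^^^ (j : ℕ)) % 8, Nat.mod_lt _ (by norm_num)⟩

/-- The action of `rM`. -/
def RI (i : Fin 8) : Fin 8 := ![0, 3, 1, 2, 4, 7, 5, 6] i

/-- The two actions of an element of order seven. -/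
def M0 (δ : Bool) (i : Fin 8) : Fin 8 :=
  if δ then ![0, 3, 6, 5, 1, 2, 7, 4] i else ![0, 7, 3, 4, 6, 1, 5, 2] i

/-- The index of the involution centralizing the second element of the centralizer of `rhoM`. -/
def tauI (δ : Bool) : Fin 8 := if δ then 5 else 1

/-- The conjugate of the central involution. -/
def tpI (δ : Bool) : Fin 8 := if δ then 2 else 7

/-- The representatives for the two dihedral subgroups in each case. -/
def cM (δ g : Bool) : Mdl :=
  if δ then
    if g then (1, ⟨swap 0 1 * swap 3 4, by rw [Equiv.Perm.mem_alternatingGroup]; decide +kernel⟩)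
    else (1, ⟨swap 0 1 * swap 2 4, by rw [Equiv.Perm.mem_alternatingGroup]; decide +kernel⟩)
  else
    if g then s3M
    else (Multiplicative.ofAdd 1,
      ⟨swap 0 1 * swap 3 4, by rw [Equiv.Perm.mem_alternatingGroup]; decide +kernel⟩)

theorem sM_list : ∀ i j, SM i * SM j = SM (xr i j) := by decide +kernel

theorem sM_inj : ∀ i j, SM i = SM j → i = j := by decide +kernel

theorem sM_four : SM 4 = τM ∧ SM 0 = 1 ∧ SM 1 = yM := by decide +kernel

theorem rM_conj : ∀ i, rM * SM i * rM⁻¹ = SM (RI i) := by decide +kernel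

theorem cent_S : ∀ m : Mdl, m * yM = yM * m → m * qM = qM * m → ∃ i, m = SM i := by decide +kernel

theorem card_norm : Nat.card {m : Mdl // ∀ i, ∃ j, m * SM i = SM j * m} = 24 := by
  rw [Nat.card_eq_fintype_card]; decide +kernel

theorem sg_facts : sgM τM = τM ∧ sgM rM = rM⁻¹ ∧ sgM rhoM = rhoM ∧ sgM yM = yM ∧
    ∀ i, ∃ j, sgM (SM i) = SM j := by decide +kernel

theorem rho_facts : rhoM ^ 3 = 1 ∧ rhoM ≠ 1 ∧ yM * rhoM * yM = rhoM⁻¹ ∧ yM * yM = 1 ∧
    rM ^ 3 = 1 ∧ τM * yM = yM * τM ∧ (τM * yM) * (τM * yM) = 1 ∧ τM * yM * rhoM * (τM * yM) = rhoM⁻¹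
    := by decide +kernel

theorem cent_rho : ∀ m : Mdl, m * rhoM = rhoM * m →
    m ∈ ([1, rhoM, rhoM * rhoM, τM, τM * rhoM, τM * (rhoM * rhoM)] : List Mdl) := by decide +kernel

/-- The candidates fall into two dihedral subgroups. -/
theorem cand : ∀ δ : Bool, ∀ m : Mdl, m * m = 1 → (m * SM (tpI δ)) ^ 15 = 1 →
    (m * SM (tpI δ)) ^ 3 ≠ 1 →
    ∃ g : Bool, ∃ i : Fin 5, cM δ g = SM (tpI δ) * (SM (tpI δ) * m) ^ (i : ℕ) := by decide +kernel

theorem pow_thirty : ∀ m : Mdl, m ^ 30 = 1 := by decide +kernel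

theorem M0_facts : ∀ δ, M0 δ (M0 δ (M0 δ 4)) = tauI δ ∧
    M0 δ (M0 δ (M0 δ (tpI δ))) = 4 := by decide +kernel

/-- The map with prescribed values at `4`, `1`, `2`. -/
def lin (a b c : Fin 8) (i : Fin 8) : Fin 8 :=
  xr (xr (if (i : ℕ).testBit 2 then a else 0) (if (i : ℕ).testBit 0 then b else 0))
    (if (i : ℕ).testBit 1 then c else 0)

theorem lin_split : ∀ i : Fin 8,
    i = xr (xr (if (i : ℕ).testBit 2 then 4 else 0) (if (i : ℕ).testBit 0 then 1 else 0))
      (if (i : ℕ).testBit 1 then 2 else 0) := by decide +kernel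

theorem lin_check : ∀ a b c : Fin 8, (∀ i, (lin a b c)^[7] i = i) → (∃ i, lin a b c i ≠ i) →
    ∀ k : Fin 7, (∀ i, RI (lin a b c i) = (lin a b c)^[(k : ℕ)] (RI i)) →
      k = 4 ∨ (k = 2 ∧ ∀ δ : Bool, ∃ j : Fin 7, j ≠ 0 ∧ ∀ i, (lin a b c)^[(j : ℕ)] i = M0 δ i) := by
  decide +kernel

end CfsgLib.J1Unique
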