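import Cfsg.Agent.Lib.JanOrder.Setup
import Cfsg.Agent.Lib.J1Unique.Tables

/-!
# An element of order seven normalizing the Sylow subgroup
-/

set_option autoImplicit false
set_option linter.unusedSectionVars false
set_option maxRecDepth 100000

namespace CfsgLib.J1Unique

open CfsgLib.JanOrder

universe u

variable {G : Type u} [Group G] [Finite G] {t : G} (D : Cen t)

/-- The elements of the Sylow subgroup. -/
def sEl (i : Fin 8) : G := D.val (SM i)

theorem sEl_mul (i j : Fin 8) : sEl D i * sEl D j = sEl D (xr i j) := by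
  rw [sEl, sEl, ← D.val_mul, sM_list]
  rfl

theorem sEl_zero : sEl D 0 = 1 := by rw [sEl, sM_four.2.1, D.val_one]

theorem sEl_four : sEl D 4 = t := by rw [sEl, sM_four.1, D.val_tau]

theorem sEl_inj {i j : Fin 8} (h : sEl D i = sEl D j) : i = j := sM_inj i j (D.val_inj h)

theorem xr_self : ∀ i, xr i i = 0 := by decide +kernel

theorem xr_comm : ∀ i j, xr i j = xr j i := by decide +kernel

theorem sEl_sq (i : Fin 8) : sEl D i * sEl D i = 1 := by rw [sEl_mul, xr_self, sEl_zero]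

theorem sEl_inv (i : Fin 8) : (sEl D i)⁻¹ = sEl D i := inv_eq_of_mul_eq_one_right (sEl_sq D i)

theorem orderOf_sEl {i : Fin 8} (hi : i ≠ 0) : orderOf (sEl D i) = 2 := by
  haveI : Fact (Nat.Prime 2) := ⟨Nat.prime_two⟩
  exact orderOf_eq_prime (by rw [pow_two, sEl_sq]) fun h => hi (sEl_inj D (h.trans (sEl_zero D).symm))

/-- The Sylow subgroup. -/
def sGrp : Subgroup G where
  carrier := Set.range (sEl D)
  one_mem' := ⟨0, sEl_zero D⟩
  mul_mem' := by
    rintro _ _ ⟨i, rfl⟩ ⟨j, rfl⟩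
    exact ⟨xr i j, (sEl_mul D i j).symm⟩
  inv_mem' := by
    rintro _ ⟨i, rfl⟩
    exact ⟨i, (sEl_inv D i).symm⟩

theorem card_sGrp : Nat.card (sGrp D) = 8 := by
  refine (Nat.card_congr (Equiv.ofBijective (fun i : Fin 8 => (⟨sEl D i, i, rfl⟩ : sGrp D))
    ⟨fun i j h => sEl_inj D (i := i) (j := j) (congrArg (fun x : sGrp D => (x : G)) h), ?_⟩)).symm.trans (Nat.card_fin 8)
  rintro ⟨_, i, rfl⟩
  exact ⟨i, rfl⟩

instance sGrp_comm : IsMulCommutative (sGrp D) := ⟨⟨fun a b => Subtype.ext (by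
  obtain ⟨i, hi⟩ := a.2
  obtain ⟨j, hj⟩ := b.2
  show (a : G) * b = b * a
  rw [← hi, ← hj, sEl_mul, sEl_mul, xr_comm])⟩⟩

/-- The normalizer of the Sylow subgroup, elementwise. -/
def Nml (w : G) : Prop := ∀ i, ∃ j, w * sEl D i * w⁻¹ = sEl D j

theorem nml_of_mem {w : G} (hw : w ∈ Subgroup.normalizer ((sGrp D : Subgroup G) : Set G)) :
    Nml D w := fun i => by
  obtain ⟨j, hj⟩ := (Subgroup.mem_normalizer_iff.1 hw (sEl D i)).1 ⟨i, rfl⟩
  exact ⟨j, hj.symm⟩

variable [IsSimpleGroup G]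

/-- The order of the normalizer of the Sylow subgroup. -/
theorem card_normalizer (hG : Nat.card G = 175560) :
    Nat.card (Subgroup.normalizer ((sGrp D : Subgroup G) : Set G)) = 168 := by
  classical
  haveI : Fact (Nat.Prime 2) := ⟨Nat.prime_two⟩
  have hS8 : Nat.card (sGrp D) = 2 ^ (Nat.card G).factorization 2 := by
    rw [card_sGrp, hG, show (175560 : ℕ).factorization 2 = 3 by
      rw [Nat.factorization_def _ Nat.prime_two]
      norm_num [padicValNat_def']
      exact multiplicity_eq_of_dvd_of_not_dvd (by norm_num) (by norm_num)]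
    norm_num
  set S : Sylow 2 G := Sylow.ofCard (sGrp D) hS8 with hS
  have hSc : (S : Subgroup G) = sGrp D := rfl
  haveI : IsMulCommutative (S : Subgroup G) := sGrp_comm D
  set N := Subgroup.normalizer ((sGrp D : Subgroup G) : Set G) with hN
  have hex : ∀ i : {i : Fin 8 // i ≠ 0}, ∃ n : G, n ∈ N ∧ n * t * n⁻¹ = sEl D i := by
    rintro ⟨i, hi⟩
    obtain ⟨g, hg⟩ := isConj_iff.1 (D.fusion.1 _ (orderOf_sEl D hi))
    have ht : t ∈ (S : Subgroup G) := ⟨4, sEl_four D⟩
    obtain ⟨n, hn, he⟩ := Sylow.conj_eq_normalizer_conj_of_mem S t g⁻¹ ht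
      (by rw [inv_inv, hg]; exact ⟨i, rfl⟩)
    rw [inv_inv, hg] at he
    exact ⟨n⁻¹, inv_mem hn, by rw [inv_inv]; exact he.symm⟩
  choose n hn hnt using hex
  have hval : ∀ m : {m : Mdl // ∀ i, ∃ j, m * SM i = SM j * m}, D.val m.1 ∈ N := by
    rintro ⟨m, hm⟩
    rw [hN, Subgroup.mem_normalizer_iff]
    have hkey : ∀ i, ∃ j, D.val m * sEl D i * (D.val m)⁻¹ = sEl D j := fun i => by
      obtain ⟨j, hj⟩ := hm i
      exact ⟨j, by rw [sEl, sEl, ← D.val_mul, hj, D.val_mul]; group⟩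
    intro h
    constructor
    · rintro ⟨i, rfl⟩
      obtain ⟨j, hj⟩ := hkey i
      exact ⟨j, hj.symm⟩
    · rintro ⟨j, hj⟩
      choose f hf using hkey
      have hinj : Function.Injective f := fun a b hab => sEl_inj D (by
        have := (hf a).trans ((congrArg (sEl D) hab).trans (hf b).symm)
        exact mul_left_cancel (mul_right_cancel this))
      obtain ⟨i, hi⟩ := Finite.injective_iff_surjective.1 hinj j
      refine ⟨i, ?_⟩
      rw [← hi, ← hf i] at hj
      exact mul_left_cancel (mul_right_cancel hj)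
  let φ : {i : Fin 8 // i ≠ 0} × {m : Mdl // ∀ i, ∃ j, m * SM i = SM j * m} → N :=
    fun p => ⟨n p.1 * D.val p.2.1, mul_mem (hn p.1) (hval p.2)⟩
  have hφ : Function.Bijective φ := by
    constructor
    · rintro ⟨i, m⟩ ⟨j, m'⟩ h
      have h' : n i * D.val m.1 = n j * D.val m'.1 := congrArg Subtype.val h
      have hc : ∀ (i : {i : Fin 8 // i ≠ 0}) (m : Mdl),
          (n i * D.val m) * t * (n i * D.val m)⁻¹ = sEl D i := fun i m => by
        rw [← hnt i, mul_inv_rev, ← mul_assoc, mul_assoc (n i) (D.val m) t, D.commute_val]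
        group
      have hij : i = j := Subtype.ext (sEl_inj D ((hc i m.1).symm.trans ((congrArg (fun u => u * t * u⁻¹) h').trans (hc j m'.1))))
      subst hij
      exact Prod.ext rfl (Subtype.ext (D.val_inj (mul_left_cancel h')))
    · rintro ⟨u, hu⟩
      obtain ⟨i, hi⟩ : ∃ i, u * t * u⁻¹ = sEl D i := by
        obtain ⟨i, hi⟩ := nml_of_mem D hu 4
        exact ⟨i, by rwa [sEl_four] at hi⟩
      have hi0 : i ≠ 0 := fun h => D.ne_one (by
        rw [h, sEl_zero] at hi
        exact conj_eq_one_iff.1 hi)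
      have hcm : (n ⟨i, hi0⟩)⁻¹ * u * t = t * ((n ⟨i, hi0⟩)⁻¹ * u) := by
        have h1 : u * t = sEl D i * u := mul_inv_eq_iff_eq_mul.1 hi
        rw [mul_assoc, h1, ← hnt ⟨i, hi0⟩]
        group
      obtain ⟨m, hm⟩ := D.val_surj hcm
      have hmn : D.val m ∈ N := hm ▸ mul_mem (inv_mem (hn _)) hu
      refine ⟨⟨⟨i, hi0⟩, m, fun j => ?_⟩, Subtype.ext (show n _ * D.val m = u by rw [hm]; group)⟩
      obtain ⟨l, hl⟩ := nml_of_mem D hmn j
      exact ⟨l, D.val_inj (by
        rw [D.val_mul, D.val_mul]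
        exact mul_inv_eq_iff_eq_mul.1 hl)⟩
  rw [← Nat.card_eq_of_bijective φ hφ, Nat.card_prod, card_norm, Nat.card_eq_fintype_card,
    Fintype.card_subtype_compl, Fintype.card_subtype_eq, Fintype.card_fin]

/-- An element of order seven in the normalizer, normalized by the element of order three. -/
theorem exists_seven (hG : Nat.card G = 175560) :
    ∃ w : G, orderOf w = 7 ∧ Nml D w ∧ ∃ k : Fin 7, D.val rM * w * (D.val rM)⁻¹ = w ^ (k : ℕ) := by
  classical
  haveI : Fact (Nat.Prime 7) := ⟨by norm_num⟩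
  haveI : Fact (Nat.Prime 3) := ⟨by norm_num⟩
  set N := Subgroup.normalizer ((sGrp D : Subgroup G) : Set G) with hN
  have h168 := card_normalizer D hG
  have hr : D.val rM ∈ N := by
    rw [hN, Subgroup.mem_normalizer_iff]
    have hk : ∀ i, D.val rM * sEl D i * (D.val rM)⁻¹ = sEl D (RI i) := fun i => by
      rw [sEl, sEl, ← D.val_inv, ← D.val_mul, ← D.val_mul, rM_conj]
    intro h
    constructor
    · rintro ⟨i, rfl⟩
      exact ⟨RI i, (hk i).symm⟩
    · rintro ⟨j, hj⟩
      obtain ⟨i, rfl⟩ : ∃ i, RI i = j := (show ∀ j, ∃ i, RI i = j by decide +kernel) j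
      refine ⟨i, ?_⟩
      rw [← hk i] at hj
      exact mul_left_cancel (mul_right_cancel hj)
  set r : N := ⟨D.val rM, hr⟩ with hrdef
  have hr3 : r ^ 3 = 1 := Subtype.ext (by
    show D.val rM ^ 3 = 1
    rw [← D.val_pow, rho_facts.2.2.2.2.1, D.val_one])
  have hn7 : ¬ 3 ∣ Nat.card (Sylow 7 N) := by
    obtain ⟨P⟩ : Nonempty (Sylow 7 N) := inferInstance
    have h1 := card_sylow_modEq_one 7 N
    have h2 : Nat.card (Sylow 7 N) ∣ 168 := by
      rw [← h168]; exact Sylow.card_dvd_index P |>.trans (P : Subgroup N).index_dvd_card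
    have hlist : ∀ d ∈ Nat.divisors 168, d % 7 = 1 → ¬ 3 ∣ d := by decide +kernel
    exact hlist _ (Nat.mem_divisors.2 ⟨h2, by norm_num⟩) h1
  obtain ⟨P, hP⟩ : ∃ P : Sylow 7 N, r • P = P := by
    have hR : IsPGroup 3 (Subgroup.zpowers r) := fun x => ⟨1, by
      obtain ⟨m, hm⟩ := Subgroup.mem_zpowers_iff.1 x.2
      apply Subtype.ext
      rw [pow_one, Subgroup.coe_pow, ← hm, ← zpow_natCast, ← zpow_mul, mul_comm, zpow_mul,
        zpow_natCast, hr3, one_zpow, Subgroup.coe_one]⟩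
    have hmod := hR.card_modEq_card_fixedPoints (α := Sylow 7 N)
    obtain ⟨P, hP⟩ : (MulAction.fixedPoints (Subgroup.zpowers r) (Sylow 7 N)).Nonempty := by
      rw [Set.nonempty_iff_ne_empty]
      intro he
      apply hn7
      rw [he] at hmod
      simpa [Nat.modEq_zero_iff_dvd] using hmod
    exact ⟨P, hP ⟨r, Subgroup.mem_zpowers r⟩⟩
  have hcP : Nat.card (P : Subgroup N) = 7 := by
    rw [P.card_eq_multiplicity, h168, Nat.factorization_def _ (Fact.out)]
    norm_num [padicValNat_def']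
    rw [multiplicity_eq_of_dvd_of_not_dvd (k := 1) (by norm_num) (by norm_num)]
    norm_num
  haveI : IsCyclic (P : Subgroup N) := isCyclic_of_prime_card hcP
  obtain ⟨w, hw⟩ := IsCyclic.exists_ofOrder_eq_natCard (α := (P : Subgroup N))
  rw [hcP, ← Subgroup.orderOf_coe] at hw
  refine ⟨((w : N) : G), by rw [Subgroup.orderOf_coe, hw], nml_of_mem D (w : N).2, ?_⟩
  have hmem : r * (w : N) * r⁻¹ ∈ (P : Subgroup N) :=
    (Subgroup.mem_normalizer_iff.1 (Sylow.smul_eq_iff_mem_normalizer.1 hP) _).1 w.2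
  have hz : Subgroup.zpowers (w : N) = (P : Subgroup N) := by
    refine Subgroup.eq_of_le_of_card_ge (Subgroup.zpowers_le.2 w.2) ?_
    rw [hcP, Nat.card_zpowers, hw]
  have hmem' : r * (w : N) * r⁻¹ ∈ Subgroup.zpowers (w : N) := by rw [hz]; exact hmem
  obtain ⟨m, hm⟩ := mem_powers_iff_mem_zpowers.2 hmem'
  refine ⟨⟨m % 7, Nat.mod_lt _ (by norm_num)⟩, ?_⟩
  have h7 : ((w : N) : G) ^ 7 = 1 := by
    have h := pow_orderOf_eq_one ((w : N) : G)
    rwa [Subgroup.orderOf_coe, hw] at h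
  show D.val rM * ((w : N) : G) * (D.val rM)⁻¹ = ((w : N) : G) ^ (m % 7)
  rw [← pow_eq_pow_mod m h7]
  exact (congrArg Subtype.val hm).symm

end CfsgLib.J1Unique
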